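import Mathlib

/-!
# Recognition of `SL(2, 3)`
-/

set_option autoImplicit false
set_option linter.style.haveILetI false

namespace CfsgLib.Char

/-- The binary tetrahedral relations. -/
structure TetraRel {H : Type*} [Group H] (i j t : H) : Prop where
  i4 : i ^ 4 = 1
  j2 : j * j = i * i
  jij : j * i * j⁻¹ = i⁻¹
  t3 : t ^ 3 = 1
  tit : t * i * t⁻¹ = j
  tjt : t * j * t⁻¹ = i * j

namespace TetraRel

variable {H : Type*} [Group H] {i j t : H}

/-- The normal forms `i ^ a * j ^ b`. -/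
def quatSet (i j : H) : Set H := {x | ∃ (a : Fin 4) (b : Fin 2), x = i ^ (a : ℕ) * j ^ (b : ℕ)}

theorem pow_mem_quatSet (h : TetraRel i j t) (a : ℕ) {b : ℕ} (hb : b < 2) : i ^ a * j ^ b ∈ quatSet i j := by
  refine ⟨⟨a % 4, Nat.mod_lt _ (by norm_num)⟩, ⟨b, hb⟩, ?_⟩
  rw [← pow_mod_orderOf, ← pow_mod_orderOf i (a % 4)]
  congr 2
  exact (Nat.mod_mod_of_dvd a (orderOf_dvd_of_pow_eq_one h.i4)).symm

theorem i_mul_mem (h : TetraRel i j t) {x : H} (hx : x ∈ quatSet i j) : i * x ∈ quatSet i j := by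
  obtain ⟨a, b, rfl⟩ := hx
  rw [← mul_assoc, ← pow_succ']
  exact pow_mem_quatSet h _ b.2

theorem j_mul_pow (h : TetraRel i j t) (a : ℕ) : j * i ^ a = i ^ (3 * a) * j := by
  have h1 : j * i ^ a * j⁻¹ = i ^ (3 * a) := by
    rw [← conj_pow, h.jij, pow_mul]
    congr 1
    rw [inv_eq_iff_mul_eq_one, ← pow_succ', h.i4]
  rw [← h1, inv_mul_cancel_right]

theorem j_mul_mem (h : TetraRel i j t) {x : H} (hx : x ∈ quatSet i j) : j * x ∈ quatSet i j := by
  obtain ⟨a, b, rfl⟩ := hx
  rw [← mul_assoc, h.j_mul_pow, mul_assoc, ← pow_succ']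
  rcases Fin.exists_fin_two.1 ⟨b, rfl⟩ with rfl | rfl
  · exact pow_mem_quatSet h _ (by norm_num)
  · rw [show j ^ ((1 : Fin 2).val + 1) = i ^ 2 * j ^ 0 by
      rw [pow_zero, mul_one, Fin.val_one, pow_two, pow_two, h.j2], ← mul_assoc, ← pow_add]
    exact pow_mem_quatSet h _ (by norm_num)

theorem quat_pow_mem (h : TetraRel i j t) (y : H) (hy : ∀ x ∈ quatSet i j, y * x ∈ quatSet i j) (n : ℕ)
    {x : H} (hx : x ∈ quatSet i j) : y ^ n * x ∈ quatSet i j := by
  induction n with
  | zero => simpa using hx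
  | succ n ih => rw [pow_succ', mul_assoc]; exact hy _ ih

theorem quat_mul_mem (h : TetraRel i j t) {x y : H} (hx : x ∈ quatSet i j) (hy : y ∈ quatSet i j) :
    x * y ∈ quatSet i j := by
  obtain ⟨a, b, rfl⟩ := hx
  rw [mul_assoc]
  exact quat_pow_mem h i (fun _ => h.i_mul_mem) _ (quat_pow_mem h j (fun _ => h.j_mul_mem) _ hy)

theorem one_mem_quatSet (h : TetraRel i j t) : (1 : H) ∈ quatSet i j := ⟨0, 0, by simp⟩

theorem t_conj_mem (h : TetraRel i j t) {x : H} (hx : x ∈ quatSet i j) : t * x * t⁻¹ ∈ quatSet i j := by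
  obtain ⟨a, b, rfl⟩ := hx
  rw [show t * (i ^ (a : ℕ) * j ^ (b : ℕ)) * t⁻¹ = (t * i * t⁻¹) ^ (a : ℕ) * (t * j * t⁻¹) ^ (b : ℕ) by
    rw [conj_pow, conj_pow]; group, h.tit, h.tjt]
  have hj : j ∈ quatSet i j := by
    have := h.j_mul_mem h.one_mem_quatSet; rwa [mul_one] at this
  have hij : i * j ∈ quatSet i j := h.i_mul_mem hj
  have hp : ∀ {y : H}, y ∈ quatSet i j → ∀ n : ℕ, y ^ n ∈ quatSet i j := fun {y} hy n => by
    induction n with
    | zero => simpa using h.one_mem_quatSet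
    | succ n ih => rw [pow_succ']; exact h.quat_mul_mem hy ih
  exact h.quat_mul_mem (hp hj _) (hp hij _)

/-- The normal forms `i ^ a * j ^ b * t ^ c`. -/
def tetraSet (i j t : H) : Set H := {x | ∃ y ∈ quatSet i j, ∃ c : Fin 3, x = y * t ^ (c : ℕ)}

theorem left_mul_tetraSet (h : TetraRel i j t) {g x : H} (hg : g = i ∨ g = j ∨ g = t)
    (hx : x ∈ tetraSet i j t) : g * x ∈ tetraSet i j t := by
  obtain ⟨y, hy, c, rfl⟩ := hx
  rcases hg with rfl | rfl | rfl
  · exact ⟨_, h.i_mul_mem hy, c, (mul_assoc _ _ _).symm⟩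
  · exact ⟨_, h.j_mul_mem hy, c, (mul_assoc _ _ _).symm⟩
  · refine ⟨_, h.t_conj_mem hy, ⟨((c : ℕ) + 1) % 3, Nat.mod_lt _ (by norm_num)⟩, ?_⟩
    show g * (y * g ^ (c : ℕ)) = g * y * g⁻¹ * g ^ (((c : ℕ) + 1) % 3)
    rw [← pow_eq_pow_mod ((c : ℕ) + 1) h.t3, pow_succ']
    group

theorem card_closure_le (h : TetraRel i j t) :
    Finite (Subgroup.closure ({i, j, t} : Set H)) ∧ Nat.card (Subgroup.closure ({i, j, t} : Set H)) ≤ 24 := by
  have hord : ∀ g ∈ ({i, j, t} : Set H), IsOfFinOrder g := by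
    intro g hg
    rcases hg with rfl | rfl | rfl
    · exact isOfFinOrder_iff_pow_eq_one.2 ⟨4, by norm_num, h.i4⟩
    · refine isOfFinOrder_iff_pow_eq_one.2 ⟨4, by norm_num, ?_⟩
      rw [show (4 : ℕ) = 2 * 2 by norm_num, pow_mul, pow_two g, h.j2, ← pow_two, ← pow_mul, h.i4]
    · exact isOfFinOrder_iff_pow_eq_one.2 ⟨3, by norm_num, h.t3⟩
  have hsub : (Subgroup.closure ({i, j, t} : Set H) : Set H) ⊆ tetraSet i j t := by
    intro x hx
    induction hx using Subgroup.closure_induction_left with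
    | one => exact ⟨1, h.one_mem_quatSet, 0, by simp⟩
    | mul_left g hg y _ ih => exact h.left_mul_tetraSet hg ih
    | inv_mul_cancel g hg y _ ih =>
      obtain ⟨n, hn⟩ : ∃ n : ℕ, g⁻¹ = g ^ n := by
        obtain ⟨k, hk, hgk⟩ := (hord g hg).exists_pow_eq_one
        exact ⟨k - 1, by rw [inv_eq_iff_mul_eq_one, ← pow_succ', show k - 1 + 1 = k by omega, hgk]⟩
      rw [hn]
      clear hn
      induction n with
      | zero => simpa using ih
      | succ n ih2 => rw [pow_succ', mul_assoc]; exact h.left_mul_tetraSet hg ih2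
  let f : Fin 4 × Fin 2 × Fin 3 → H := fun p => i ^ (p.1 : ℕ) * j ^ (p.2.1 : ℕ) * t ^ (p.2.2 : ℕ)
  have hf : tetraSet i j t ⊆ Set.range f := by
    rintro x ⟨y, ⟨a, b, rfl⟩, c, rfl⟩
    exact ⟨(a, b, c), rfl⟩
  have hfin : (Set.range f).Finite := Set.finite_range f
  have hfin' : ((Subgroup.closure ({i, j, t} : Set H) : Subgroup H) : Set H).Finite := hfin.subset (hsub.trans hf)
  refine ⟨hfin'.to_subtype, ?_⟩
  refine (Nat.card_mono hfin (hsub.trans hf)).trans ?_
  rw [← Set.image_univ]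
  refine (Nat.card_image_le Set.finite_univ).trans ?_
  simp [Nat.card_prod]

/-- Two groups of order 24 generated by binary tetrahedral triples are isomorphic. -/
theorem nonempty_mulEquiv {G : Type*} [Group G] [Finite G] {K : Type*} [Group K] [Finite K]
    (hG : Nat.card G = 24) (hK : Nat.card K = 24) {i j t : G} {i' j' t' : K}
    (h : TetraRel i j t) (h' : TetraRel i' j' t')
    (hgen : Subgroup.closure ({i, j, t} : Set G) = ⊤) (hgen' : Subgroup.closure ({i', j', t'} : Set K) = ⊤) :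
    Nonempty (G ≃* K) := by
  have hp : TetraRel ((i, i') : G × K) (j, j') (t, t') :=
    ⟨Prod.ext h.i4 h'.i4, Prod.ext h.j2 h'.j2, Prod.ext h.jij h'.jij, Prod.ext h.t3 h'.t3,
      Prod.ext h.tit h'.tit, Prod.ext h.tjt h'.tjt⟩
  obtain ⟨hfin, hle⟩ := hp.card_closure_le
  set S := Subgroup.closure ({(i, i'), (j, j'), (t, t')} : Set (G × K)) with hS
  have h1 : Function.Surjective ((MonoidHom.fst G K).comp S.subtype) := by
    rw [← MonoidHom.range_eq_top, MonoidHom.range_comp, Subgroup.range_subtype, hS, MonoidHom.map_closure]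
    simpa [Set.image_insert_eq] using hgen
  have h2 : Function.Surjective ((MonoidHom.snd G K).comp S.subtype) := by
    rw [← MonoidHom.range_eq_top, MonoidHom.range_comp, Subgroup.range_subtype, hS, MonoidHom.map_closure]
    simpa [Set.image_insert_eq] using hgen'
  have b1 : Function.Bijective ((MonoidHom.fst G K).comp S.subtype) :=
    (Nat.bijective_iff_surjective_and_card _).2 ⟨h1, le_antisymm (hle.trans_eq hG.symm) (Nat.card_le_card_of_surjective _ h1)⟩
  have b2 : Function.Bijective ((MonoidHom.snd G K).comp S.subtype) :=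
    (Nat.bijective_iff_surjective_and_card _).2 ⟨h2, le_antisymm (hle.trans_eq hK.symm) (Nat.card_le_card_of_surjective _ h2)⟩
  exact ⟨(MulEquiv.ofBijective _ b1).symm.trans (MulEquiv.ofBijective _ b2)⟩

end TetraRel

theorem closure_eq_top_of_card_24 {G : Type*} [Group G] [Finite G] (hG : Nat.card G = 24) {i j t : G}
    (h : TetraRel i j t) (hi : orderOf i = 4) (hj : j ∉ Subgroup.zpowers i) (ht : orderOf t = 3) :
    Subgroup.closure ({i, j, t} : Set G) = ⊤ := by
  classical
  set Q := Subgroup.closure ({i, j} : Set G) with hQ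
  set L := Subgroup.closure ({i, j, t} : Set G) with hL
  have hQL : Q ≤ L := Subgroup.closure_mono (by simp [Set.insert_subset_iff])
  have hiQ : Subgroup.zpowers i ≤ Q := Subgroup.zpowers_le.2 (Subgroup.subset_closure (by simp))
  have hlt : Subgroup.zpowers i < Q := lt_of_le_of_ne hiQ fun e => hj (by
    rw [e]; exact Subgroup.subset_closure (by simp))
  have h4 : 4 ∣ Nat.card Q := by
    have h1 := Subgroup.card_dvd_of_le hiQ
    rwa [Nat.card_zpowers, hi] at h1
  have hgt : 4 < Nat.card Q := by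
    by_contra hle
    push Not at hle
    exact hlt.ne (Subgroup.eq_of_le_of_card_ge hiQ (by rw [Nat.card_zpowers, hi]; exact hle))
  have hsub : (Q : Set G) ⊆ TetraRel.quatSet i j := by
    intro x hx
    have hi' : i ∈ TetraRel.quatSet i j := by
      have := h.i_mul_mem h.one_mem_quatSet; rwa [mul_one] at this
    have hj' : j ∈ TetraRel.quatSet i j := by
      have := h.j_mul_mem h.one_mem_quatSet; rwa [mul_one] at this
    rw [SetLike.mem_coe, hQ, ← Subgroup.mem_toSubmonoid, Subgroup.closure_toSubmonoid_of_finite] at hx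
    induction hx using Submonoid.closure_induction with
    | mem x hx =>
      rcases hx with rfl | rfl
      exacts [hi', hj']
    | one => exact h.one_mem_quatSet
    | mul x y _ _ hx hy => exact h.quat_mul_mem hx hy
  have h8 : Nat.card Q ≤ 8 := by
    refine (Nat.card_mono (Set.toFinite _) hsub).trans ?_
    let f : Fin 4 × Fin 2 → G := fun p => i ^ (p.1 : ℕ) * j ^ (p.2 : ℕ)
    have : TetraRel.quatSet i j ⊆ Set.range f := by
      rintro x ⟨a, b, rfl⟩; exact ⟨(a, b), rfl⟩
    refine (Nat.card_mono (Set.toFinite _) this).trans ?_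
    rw [← Set.image_univ]
    exact (Nat.card_image_le Set.finite_univ).trans (by simp [Nat.card_prod])
  have hQ8 : Nat.card Q = 8 := by
    obtain ⟨c, hc⟩ := h4
    have : c = 2 := by omega
    omega
  have h8L : 8 ∣ Nat.card L := hQ8 ▸ Subgroup.card_dvd_of_le hQL
  have h3L : 3 ∣ Nat.card L := by
    rw [← ht, ← Nat.card_zpowers]
    exact Subgroup.card_dvd_of_le (Subgroup.zpowers_le.2 (Subgroup.subset_closure (by simp)))
  have h24 : 24 ∣ Nat.card L := Nat.Coprime.mul_dvd_of_dvd_of_dvd (m := 8) (n := 3) (by norm_num) h8L h3L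
  exact Subgroup.eq_top_of_card_eq _ (Nat.dvd_antisymm L.card_subgroup_dvd_card (hG ▸ h24))

theorem card_SL23 : Nat.card (Matrix.SpecialLinearGroup (Fin 2) (ZMod 3)) = 24 := by
  rw [Nat.card_eq_fintype_card]
  decide +kernel

theorem exists_tetra_SL23 : ∃ i j t : Matrix.SpecialLinearGroup (Fin 2) (ZMod 3),
    TetraRel i j t ∧ Subgroup.closure ({i, j, t} : Set (Matrix.SpecialLinearGroup (Fin 2) (ZMod 3))) = ⊤ := by
  let i : Matrix.SpecialLinearGroup (Fin 2) (ZMod 3) := ⟨!![0, -1; 1, 0], by decide +kernel⟩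
  let j : Matrix.SpecialLinearGroup (Fin 2) (ZMod 3) := ⟨!![1, 1; 1, 2], by decide +kernel⟩
  let t : Matrix.SpecialLinearGroup (Fin 2) (ZMod 3) := ⟨!![1, 1; 0, 1], by decide +kernel⟩
  have h : TetraRel i j t := by
    refine ⟨?_, ?_, ?_, ?_, ?_, ?_⟩ <;> (apply Subtype.ext; decide +kernel)
  have hi : orderOf i = 4 := by
    have h2 : ¬ i ^ 2 = 1 := fun e => (by decide +kernel : (i ^ 2).val ≠ (1 : Matrix (Fin 2) (Fin 2) (ZMod 3))) (congrArg Subtype.val e)
    simpa using orderOf_eq_prime_pow (p := 2) (n := 1) (x := i) (by simpa using h2) (by simpa using h.i4)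
  have ht : orderOf t = 3 := by
    have hne : t.val ≠ (1 : Matrix (Fin 2) (Fin 2) (ZMod 3)) := by decide +kernel
    haveI : Fact (Nat.Prime 3) := ⟨Nat.prime_three⟩
    exact orderOf_eq_prime h.t3 fun e => hne (congrArg Subtype.val e)
  refine ⟨i, j, t, h, closure_eq_top_of_card_24 card_SL23 h hi ?_ ht⟩
  intro hj
  obtain ⟨m, hm⟩ := Subgroup.mem_zpowers_iff.1 hj
  have hc : j * i = i * j := by rw [← hm]; exact ((Commute.refl i).zpow_left m).eq
  exact (by decide +kernel : (j * i).val ≠ (i * j).val) (congrArg Subtype.val hc)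

/-- A group of order 24 with one involution and a non-central action on a normal subgroup of order 8. -/
theorem mulEquiv_SL23_of_order_24 {G : Type*} [Group G] [Finite G] (hG : Nat.card G = 24)
    (huniq : ∀ x y : G, orderOf x = 2 → orderOf y = 2 → x = y) (Q : Subgroup G) [Q.Normal]
    (hQ : Nat.card Q = 8) (hQnab : ∃ a ∈ Q, ∃ b ∈ Q, a * b ≠ b * a) {t : G} (ht : orderOf t = 3)
    (htQ : ∃ a ∈ Q, t * a ≠ a * t) :
    Nonempty (G ≃* Matrix.SpecialLinearGroup (Fin 2) (ZMod 3)) := by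
  classical
  haveI : Fact (Nat.Prime 2) := ⟨Nat.prime_two⟩
  obtain ⟨a, ha, b, hb, hab⟩ := hQnab
  -- element orders in `Q`
  have hdiv : ∀ x ∈ Q, orderOf x ∣ 8 := fun x hx => hQ ▸ Subgroup.orderOf_dvd_natCard Q hx
  have h8 : ∀ x ∈ Q, orderOf x ≠ 8 := by
    intro x hx h
    have hz : Subgroup.zpowers x = Q :=
      Subgroup.eq_of_le_of_card_ge (Subgroup.zpowers_le.2 hx) (by rw [Nat.card_zpowers, h, hQ])
    rw [← hz, Subgroup.mem_zpowers_iff] at ha hb
    obtain ⟨m, rfl⟩ := ha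
    obtain ⟨n, rfl⟩ := hb
    exact hab (zpow_mul_comm x m n)
  have hord : ∀ x ∈ Q, orderOf x = 1 ∨ orderOf x = 2 ∨ orderOf x = 4 := by
    intro x hx
    obtain ⟨k, hk, hk'⟩ := (Nat.dvd_prime_pow Nat.prime_two).1 (show orderOf x ∣ 2 ^ 3 from hdiv x hx)
    have := h8 x hx
    interval_cases k <;> simp_all
  obtain ⟨z, hzQ, hz⟩ : ∃ z ∈ Q, orderOf z = 2 := by
    obtain ⟨w, hw⟩ := exists_prime_orderOf_dvd_card' (G := Q) 2 (by rw [hQ]; norm_num)
    exact ⟨w, w.2, by rw [Subgroup.orderOf_coe]; exact hw⟩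
  have hsq : ∀ x, orderOf x = 4 → x * x = z := fun x hx => huniq _ _ (by
    rw [← pow_two, orderOf_pow' _ two_ne_zero, hx]; norm_num) hz
  have hzc : ∀ g : G, g * z = z * g := fun g => by
    have := huniq _ z (show orderOf (MulAut.conj g z) = 2 by rw [MulEquiv.orderOf_eq, hz]) hz
    rw [MulAut.conj_apply, mul_inv_eq_iff_eq_mul] at this
    exact this
  -- an element moved out of its own cyclic subgroup by `t`
  have htn : ∀ x ∈ Q, t * x * t⁻¹ ∈ Q := fun x hx => (inferInstance : Q.Normal).conj_mem x hx t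
  obtain ⟨i, hiQ, hi, hmove⟩ : ∃ i ∈ Q, orderOf i = 4 ∧ t * i * t⁻¹ ∉ Subgroup.zpowers i := by
    obtain ⟨c, hcQ, hc⟩ := htQ
    rcases hord c hcQ with h1 | h2 | h4
    · rw [orderOf_eq_one_iff.1 h1] at hc; simp at hc
    · rw [huniq c z h2 hz] at hc; exact absurd (hzc t) hc
    refine ⟨c, hcQ, h4, fun hmem => hc ?_⟩
    have hfix : ∀ y ∈ Subgroup.zpowers c, y = 1 ∨ y = c ∨ y = z ∨ y = c⁻¹ := by
      intro y hy
      rw [mem_zpowers_iff_mem_range_orderOf, h4, Finset.mem_image] at hy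
      obtain ⟨k, hk, rfl⟩ := hy
      rw [Finset.mem_range] at hk
      have h44 : c ^ 4 = 1 := h4 ▸ pow_orderOf_eq_one c
      interval_cases k
      · simp
      · simp
      · exact Or.inr (Or.inr (Or.inl (by rw [pow_two, hsq c h4])))
      · exact Or.inr (Or.inr (Or.inr (eq_inv_of_mul_eq_one_left (by rw [← pow_succ, h44]))))
    have ho : orderOf (t * c * t⁻¹) = 4 := by
      rw [show t * c * t⁻¹ = MulAut.conj t c from (MulAut.conj_apply _ _).symm, MulEquiv.orderOf_eq, h4]
    rcases hfix _ hmem with e | e | e | e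
    · rw [e, orderOf_one] at ho; norm_num at ho
    · rw [mul_inv_eq_iff_eq_mul] at e; exact e
    · rw [e, hz] at ho; norm_num at ho
    · exfalso
      have h3 : MulAut.conj t (MulAut.conj t (MulAut.conj t c)) = c := by
        rw [← MulAut.mul_apply, ← MulAut.mul_apply, ← map_mul, ← map_mul, ← pow_three',
          show t ^ 3 = 1 from ht ▸ pow_orderOf_eq_one t, map_one, MulAut.one_apply]
      have e' : MulAut.conj t c = c⁻¹ := by rw [MulAut.conj_apply]; exact e
      rw [e', map_inv, e', inv_inv, e'] at h3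
      have hone : c ^ 2 = 1 := by rw [pow_two]; nth_rewrite 1 [← h3]; rw [inv_mul_cancel]
      have := orderOf_dvd_of_pow_eq_one hone
      rw [h4] at this
      norm_num at this
  -- any two such elements generate a quaternion group
  have hquat : ∀ x y : G, x ∈ Q → y ∈ Q → orderOf x = 4 → orderOf y = 4 → y ∉ Subgroup.zpowers x →
      y * x * y⁻¹ = x⁻¹ := by
    intro x y hx hy h4 hy4 hne
    set X := (Subgroup.zpowers x).subgroupOf Q with hX
    have hcardX : Nat.card X = 4 := by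
      rw [hX, Nat.card_congr (Subgroup.subgroupOfEquivOfLe (Subgroup.zpowers_le.2 hx)).toEquiv, Nat.card_zpowers, h4]
    have hidx : X.index = 2 := by
      have := X.card_mul_index
      rw [hcardX, hQ] at this; omega
    haveI := Subgroup.normal_of_index_eq_two hidx
    have hmem : y * x * y⁻¹ ∈ Subgroup.zpowers x :=
      (inferInstance : X.Normal).conj_mem ⟨x, hx⟩ (Subgroup.mem_zpowers x) ⟨y, hy⟩
    rw [mem_zpowers_iff_mem_range_orderOf, h4, Finset.mem_image] at hmem
    obtain ⟨k, hk, hk'⟩ := hmem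
    rw [Finset.mem_range] at hk
    have ho : orderOf (x ^ k) = 4 := by
      rw [hk', show y * x * y⁻¹ = MulAut.conj y x from (MulAut.conj_apply _ _).symm, MulEquiv.orderOf_eq, h4]
    have h44 : x ^ 4 = 1 := h4 ▸ pow_orderOf_eq_one x
    interval_cases k
    · simp at ho
    · exfalso
      rw [pow_one] at hk'
      have hcomm : y * x = x * y := (eq_mul_inv_iff_mul_eq.1 hk').symm
      apply hab
      have hall : ∀ g ∈ Q, g * x = x * g := by
        intro g hg
        by_cases hgx : g ∈ Subgroup.zpowers x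
        · obtain ⟨m, rfl⟩ := Subgroup.mem_zpowers_iff.1 hgx
          exact ((Commute.refl x).zpow_left m).eq
        · have h1 : (⟨y, hy⟩ : Q)⁻¹ * ⟨g, hg⟩ ∈ X :=
            (Subgroup.mul_mem_iff_of_index_two hidx).2 (by
              rw [inv_mem_iff]
              exact iff_of_false hne hgx)
          obtain ⟨m, hm⟩ := Subgroup.mem_zpowers_iff.1 (Subgroup.mem_subgroupOf.1 h1)
          have hg' : g = y * x ^ m := by rw [hm]; simp
          rw [hg']
          exact ((show Commute y x from hcomm).mul_left ((Commute.refl x).zpow_left m)).eq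
      by_cases hax : a ∈ Subgroup.zpowers x
      · obtain ⟨m, rfl⟩ := Subgroup.mem_zpowers_iff.1 hax
        exact ((show Commute b x from hall b hb).zpow_right m).eq.symm
      · by_cases hbx : b ∈ Subgroup.zpowers x
        · obtain ⟨m, rfl⟩ := Subgroup.mem_zpowers_iff.1 hbx
          exact ((show Commute a x from hall a ha).zpow_right m).eq
        · have h1 : (⟨a, ha⟩ : Q)⁻¹ * ⟨b, hb⟩ ∈ X :=
            (Subgroup.mul_mem_iff_of_index_two hidx).2 (by
              rw [inv_mem_iff]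
              exact iff_of_false hax hbx)
          obtain ⟨m, hm⟩ := Subgroup.mem_zpowers_iff.1 (Subgroup.mem_subgroupOf.1 h1)
          have hb' : b = a * x ^ m := by rw [hm]; simp
          rw [hb']
          exact ((Commute.refl a).mul_right ((show Commute a x from hall a ha).zpow_right m)).eq
    · rw [pow_two, hsq x h4, hz] at ho; norm_num at ho
    · rw [← hk']
      exact eq_inv_of_mul_eq_one_left (by rw [← pow_succ, h44])
  have hconj4 : ∀ x, orderOf x = 4 → orderOf (t * x * t⁻¹) = 4 := fun x hx => by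
    rw [show t * x * t⁻¹ = MulAut.conj t x from (MulAut.conj_apply _ _).symm, MulEquiv.orderOf_eq, hx]
  set j := t * i * t⁻¹ with hj
  have hjQ : j ∈ Q := htn i hiQ
  have hj4 : orderOf j = 4 := hconj4 i hi
  have hji := hquat i j hiQ hjQ hi hj4 hmove
  have ht3 : t ^ 3 = 1 := ht ▸ pow_orderOf_eq_one t
  set u := t * j * t⁻¹ with hu
  have huQ : u ∈ Q := htn j hjQ
  have htu : t * u * t⁻¹ = i := by
    rw [hu, hj, show t * (t * (t * i * t⁻¹) * t⁻¹) * t⁻¹ = t ^ 3 * i * (t ^ 3)⁻¹ by simp [pow_succ, mul_assoc], ht3]; group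
  have hui : u ∉ Subgroup.zpowers i := by
    intro h
    obtain ⟨m, hm⟩ := Subgroup.mem_zpowers_iff.1 h
    refine hmove (Subgroup.mem_zpowers_iff.2 ⟨m * m, ?_⟩)
    have h1 : i = j ^ m := by
      rw [hj, conj_zpow, hm]; exact htu.symm
    calc i ^ (m * m) = (i ^ m) ^ m := zpow_mul i m m
      _ = u ^ m := by rw [hm]
      _ = (t * j * t⁻¹) ^ m := rfl
      _ = t * j ^ m * t⁻¹ := conj_zpow
      _ = t * i * t⁻¹ := by rw [← h1]
  have huj : u ∉ Subgroup.zpowers j := by
    intro h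
    refine hmove ?_
    obtain ⟨m, hm⟩ := Subgroup.mem_zpowers_iff.1 h
    rw [Subgroup.mem_zpowers_iff]
    refine ⟨m, ?_⟩
    have h1 : t * (t * i ^ m * t⁻¹) * t⁻¹ = t * (t * i * t⁻¹) * t⁻¹ → t * i ^ m * t⁻¹ = t * i * t⁻¹ := fun e =>
      mul_left_cancel (mul_right_cancel e)
    have h2 : t * i ^ m * t⁻¹ = u := by rw [← hm, hj, conj_zpow]
    rw [hu] at h2
    exact mul_left_cancel (mul_right_cancel h2)
  -- so `u` is `i * j` or `j * i`
  have hu2 : u = i * j ∨ u = j * i := by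
    set X := (Subgroup.zpowers i).subgroupOf Q with hX
    have hcardX : Nat.card X = 4 := by
      rw [hX, Nat.card_congr (Subgroup.subgroupOfEquivOfLe (Subgroup.zpowers_le.2 hiQ)).toEquiv, Nat.card_zpowers, hi]
    have hidx : X.index = 2 := by
      have := X.card_mul_index
      rw [hcardX, hQ] at this; omega
    have h1 : (⟨u, huQ⟩ : Q) * (⟨j, hjQ⟩)⁻¹ ∈ X :=
      (Subgroup.mul_mem_iff_of_index_two hidx).2 (by
        rw [inv_mem_iff]
        exact iff_of_false hui hmove)
    have h1' : u * j⁻¹ ∈ Subgroup.zpowers i := h1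
    rw [mem_zpowers_iff_mem_range_orderOf, hi, Finset.mem_image] at h1'
    obtain ⟨k, hk, hk'⟩ := h1'
    rw [Finset.mem_range] at hk
    have hu' : u = i ^ k * j := by rw [hk', inv_mul_cancel_right]
    have h44 : i ^ 4 = 1 := hi ▸ pow_orderOf_eq_one i
    interval_cases k
    · exact absurd (show u ∈ Subgroup.zpowers j by
        rw [hu', pow_zero, one_mul]; exact Subgroup.mem_zpowers j) huj
    · left; rw [hu', pow_one]
    · exact absurd (show u ∈ Subgroup.zpowers j by
        rw [hu', pow_two, hsq i hi, ← hsq j hj4, ← pow_two, ← pow_succ]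
        exact Subgroup.npow_mem_zpowers j _) huj
    · right
      rw [hu', show i ^ 3 = i⁻¹ from eq_inv_of_mul_eq_one_left (by rw [← pow_succ, h44]), ← hji,
        inv_mul_cancel_right]
  have hi4 : i ^ 4 = 1 := hi ▸ pow_orderOf_eq_one i
  have hj44 : j ^ 4 = 1 := hj4 ▸ pow_orderOf_eq_one j
  obtain ⟨i', j', t', hrel, hi', hne', ht'⟩ : ∃ i' j' t' : G, TetraRel i' j' t' ∧ orderOf i' = 4 ∧
      j' ∉ Subgroup.zpowers i' ∧ orderOf t' = 3 := by
    rcases hu2 with h | h
    · exact ⟨i, j, t, ⟨hi4, by rw [hsq j hj4, hsq i hi], hji, ht3, rfl, h⟩, hi, hmove, ht⟩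
    · have hij : i ∉ Subgroup.zpowers j := fun hm => huj (by
        rw [h]; exact mul_mem (Subgroup.mem_zpowers j) hm)
      refine ⟨j, i, t⁻¹, ⟨hj44, by rw [hsq i hi, hsq j hj4], hquat j i hjQ hiQ hj4 hi hij,
        by rw [inv_pow, ht3, inv_one], by rw [hj]; group, ?_⟩, hj4, hij, by rw [orderOf_inv, ht]⟩
      calc t⁻¹ * i * t⁻¹⁻¹ = t ^ 2 * i * (t ^ 2)⁻¹ := by
            rw [show t ^ 2 = t⁻¹ from eq_inv_of_mul_eq_one_left (by rw [← pow_succ, ht3])]
        _ = u := by rw [hu, hj]; simp [pow_succ, mul_assoc]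
        _ = j * i := h
  obtain ⟨i₀, j₀, t₀, h₀, hgen₀⟩ := exists_tetra_SL23
  exact hrel.nonempty_mulEquiv hG card_SL23 h₀ (closure_eq_top_of_card_24 hG hrel hi' hne' ht') hgen₀

end CfsgLib.Char
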