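import Mathlib

/-!
# Arithmetic for solvable transitive linear groups

If `Q ^ m - 1` divides `(Q - 1) * k * e ^ 2 * |Aut|`, where every prime divisor of `e ≥ 2` divides `Q - 1`,
`Q = q ^ k` and `e ≤ m`, then `Q ^ m` is one of `9, 25, 49, 121, 529, 81`.
-/

set_option autoImplicit false
set_option maxRecDepth 100000

namespace CfsgLib.Char

/-- The order of `GL(n, p)`. -/
def glCard (n p : ℕ) : ℕ := ∏ i ∈ Finset.range n, (p ^ n - p ^ i)

/-- `e ^ 2` times the product of the orders of `GL(2s, p)` over the prime powers `p ^ s` exactly dividing `e`. -/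
noncomputable def autBound (e : ℕ) : ℕ :=
  e ^ 2 * ∏ p ∈ e.primeFactors, glCard (2 * e.factorization p) p

theorem glCard_le (n p : ℕ) : glCard n p ≤ p ^ (n * n) := by
  refine (Finset.prod_le_pow_card _ _ (p ^ n) fun i _ => Nat.sub_le _ _).trans ?_
  rw [Finset.card_range, ← pow_mul]

/-- The primes below 256. -/
def smallPrimes : List ℕ :=
  [2, 3, 5, 7, 11, 13, 17, 19, 23, 29, 31, 37, 41, 43, 47, 53, 59, 61, 67, 71, 73, 79, 83, 89, 97, 101, 103,
    107, 109, 113, 127, 131, 137, 139, 149, 151, 157, 163, 167, 173, 179, 181, 191, 193, 197, 199, 211, 223,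
    227, 229, 233, 239, 241, 251]

theorem smallPrimes_complete : ∀ p < 256, p < 2 ∨ p ∈ smallPrimes ∨
    ∃ d ∈ [2, 3, 5, 7, 11, 13], d ∣ p ∧ d < p := by decide +kernel

theorem smallPrimes_sound : ∀ p ∈ smallPrimes, 2 ≤ p ∧ ∀ d < p, 2 ≤ d → ¬ d ∣ p := by decide +kernel

theorem smallPrimes_nodup : smallPrimes.Nodup := by decide +kernel

theorem prime_iff_mem_smallPrimes {p : ℕ} (hp : p < 256) : p.Prime ↔ p ∈ smallPrimes := by
  constructor
  · intro h
    rcases smallPrimes_complete p hp with h1 | h1 | ⟨d, hd, hdp, hlt⟩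
    · have := h.two_le; omega
    · exact h1
    · have h2 : 2 ≤ d := by fin_cases hd <;> norm_num
      rcases h.eq_one_or_self_of_dvd d hdp with e | e <;> omega
  · intro h
    obtain ⟨h2, h3⟩ := smallPrimes_sound p h
    rw [Nat.prime_def_lt]
    refine ⟨h2, fun d hd hdvd => ?_⟩
    by_contra h1
    rcases Nat.lt_or_ge d 2 with h4 | h4
    · have : d = 0 := by omega
      subst this
      rw [zero_dvd_iff] at hdvd; omega
    · exact h3 d hd h4 hdvd

/-- The prime divisors of a number below 256, computably. -/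
def primeDivs (e : ℕ) : List ℕ := smallPrimes.filter fun p => e % p == 0

/-- The exponent of `p` in `e`, computably. -/
def expIn (p e : ℕ) : ℕ := ((List.range 8).filter fun i => e % p ^ (i + 1) == 0).length

/-- `glCard`, computably. -/
def glCardC (n p : ℕ) : ℕ := ((List.range n).map fun i => p ^ n - p ^ i).prod

/-- `autBound`, computably. -/
def autBoundC (e : ℕ) : ℕ := e ^ 2 * ((primeDivs e).map fun p => glCardC (2 * expIn p e) p).prod

/-- `Q = q ^ k` forces `k` to divide this number, for `Q < 170`. -/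
def powExp (Q : ℕ) : ℕ :=
  ([(4, 2), (8, 3), (9, 2), (16, 4), (25, 2), (27, 3), (32, 5), (36, 2), (49, 2), (64, 6), (81, 4), (100, 2),
    (121, 2), (125, 3), (128, 7), (144, 2), (169, 2)].lookup Q).getD 1

theorem primeDivs_toFinset {e : ℕ} (he0 : e ≠ 0) (he : e < 256) : (primeDivs e).toFinset = e.primeFactors := by
  ext p
  simp only [primeDivs, List.mem_toFinset, List.mem_filter, beq_iff_eq, Nat.mem_primeFactors]
  constructor
  · rintro ⟨h1, h2⟩
    have hp : p ∣ e := Nat.dvd_of_mod_eq_zero h2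
    exact ⟨(prime_iff_mem_smallPrimes ((Nat.le_of_dvd (Nat.pos_of_ne_zero he0) hp).trans_lt he)).2 h1, hp, he0⟩
  · rintro ⟨h1, h2, -⟩
    exact ⟨(prime_iff_mem_smallPrimes ((Nat.le_of_dvd (Nat.pos_of_ne_zero he0) h2).trans_lt he)).1 h1,
      Nat.mod_eq_zero_of_dvd h2⟩

theorem expIn_eq {p e : ℕ} (hp : p.Prime) (he0 : e ≠ 0) (he : e < 256) : expIn p e = e.factorization p := by
  have hlt : e.factorization p < 8 := by
    by_contra h
    push Not at h
    have h1 : p ^ 8 ≤ e := (Nat.pow_le_pow_right hp.pos h).trans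
      (Nat.le_of_dvd (Nat.pos_of_ne_zero he0) (Nat.ordProj_dvd e p))
    have h2 : 2 ^ 8 ≤ p ^ 8 := Nat.pow_le_pow_left hp.two_le 8
    omega
  unfold expIn
  rw [show ((List.range 8).filter fun i => e % p ^ (i + 1) == 0) = (List.range 8).filter (fun i => i < e.factorization p) from
    List.filter_congr fun i _ => by
      rw [Bool.eq_iff_iff, beq_iff_eq, decide_eq_true_iff, ← Nat.dvd_iff_mod_eq_zero,
        hp.pow_dvd_iff_le_factorization he0]
      rfl]
  generalize e.factorization p = v at hlt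
  interval_cases v <;> decide

theorem autBoundC_eq {e : ℕ} (he0 : e ≠ 0) (he : e < 256) : autBoundC e = autBound e := by
  unfold autBoundC autBound
  congr 1
  rw [← primeDivs_toFinset he0 he, List.prod_toFinset _ (show (primeDivs e).Nodup from smallPrimes_nodup.filter _)]
  refine congrArg List.prod (List.map_congr_left fun p hp => ?_)
  have hmem : p ∈ smallPrimes := (List.mem_filter.1 hp).1
  have hp' : p.Prime := by
    have h : p < 256 := (show ∀ p ∈ smallPrimes, p < 256 by decide +kernel) p hmem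
    exact (prime_iff_mem_smallPrimes h).2 hmem
  rw [expIn_eq hp' he0 he]
  unfold glCardC glCard
  rw [← List.toFinset_range, List.prod_toFinset _ (List.nodup_range)]

/-- The exceptional values of `e`. -/
def exceptE : List ℕ := [2, 3, 4, 5, 6, 7, 8, 9, 16, 27, 32, 64, 128]

theorem mem_exceptE : ∀ e < 256, 2 ≤ e → e ∈ exceptE ∨
    autBoundC e < ((primeDivs e).prod + 1) ^ (e - 2) := by decide +kernel

theorem exceptE_bounds : ∀ e ∈ exceptE, autBoundC e < 3 ^ (e + 45) ∧
    (e = 2 ∨ autBoundC e * autBoundC e < 170 ^ (2 * e - 3)) := by decide +kernel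

theorem powExp_spec : ∀ q < 170, ∀ k < 8, 2 ≤ q → 1 ≤ k → q ^ k < 170 → k ∣ powExp (q ^ k) := by
  decide +kernel

set_option synthInstance.maxSize 4096 in
set_option synthInstance.maxHeartbeats 200000 in
theorem survivors_table : ∀ e ∈ exceptE, ∀ Q < 170, 3 ≤ Q → (∀ p ∈ primeDivs e, p ∣ Q - 1) → ∀ j < 48,
    (Q ^ (e + j) - 1) ∣ (Q - 1) * (powExp Q * autBoundC e) →
    (e = 2 ∧ j = 0 ∧ Q ∈ [3, 5, 7, 11, 23]) ∨ (e = 4 ∧ j = 0 ∧ Q = 3) := by decide +kernel

theorem autBound_le {e : ℕ} (he : e ≠ 0) : autBound e ≤ e ^ (2 + 4 * Nat.log 2 e) := by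
  rw [pow_add]
  refine Nat.mul_le_mul le_rfl ?_
  have h1 : ∀ p ∈ e.primeFactors, glCard (2 * e.factorization p) p ≤
      (p ^ e.factorization p) ^ (4 * Nat.log 2 e) := by
    intro p hp
    refine (glCard_le _ _).trans ?_
    rw [← pow_mul]
    refine Nat.pow_le_pow_right (Nat.prime_of_mem_primeFactors hp).pos ?_
    have h2 : e.factorization p ≤ Nat.log 2 e := by
      refine Nat.le_log_of_pow_le (by norm_num) ?_
      exact (Nat.pow_le_pow_left (Nat.prime_of_mem_primeFactors hp).two_le _).trans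
        (Nat.le_of_dvd (Nat.pos_of_ne_zero he) (Nat.ordProj_dvd e p))
    nlinarith
  refine (Finset.prod_le_prod' h1).trans ?_
  rw [Finset.prod_pow]
  refine Nat.pow_le_pow_left ?_ _
  exact le_of_eq (by rw [← Nat.support_factorization]; exact Nat.prod_factorization_pow_eq_self he)

theorem autBound_pos {e : ℕ} (he : e ≠ 0) : 0 < autBound e := by
  refine Nat.mul_pos (pow_pos (Nat.pos_of_ne_zero he) 2) (Finset.prod_pos fun p hp => ?_)
  refine Finset.prod_pos fun i hi => ?_
  have := Nat.pow_lt_pow_right (Nat.prime_of_mem_primeFactors hp).one_lt (Finset.mem_range.1 hi)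
  omega

theorem large_e_bound : ∀ L : ℕ, 8 ≤ L → (L + 1) * (4 * L + 2) ≤ 3 * (2 ^ (L - 1) - 1) := by
  intro L hL
  induction L, hL using Nat.le_induction with
  | base => norm_num
  | succ L hL ih =>
    obtain ⟨j, rfl⟩ : ∃ j, L = j + 1 := ⟨L - 1, by omega⟩
    simp only [Nat.add_sub_cancel] at ih ⊢
    have h2 : 2 ^ (j + 1) = 2 * 2 ^ j := by rw [pow_succ]; ring
    rw [h2]
    nlinarith [Nat.sub_add_cancel (Nat.one_le_two_pow (n := j)), Nat.sub_add_cancel (show 1 ≤ 2 * 2 ^ j by
      have := Nat.one_le_two_pow (n := j); omega)]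

theorem autBound_lt_of_large {e : ℕ} (he : 256 ≤ e) : autBound e < 3 ^ (e - 2) := by
  have he0 : e ≠ 0 := by omega
  set L := Nat.log 2 e with hL
  have h1 : 2 ^ L ≤ e := Nat.pow_log_le_self 2 he0
  have h2 : e < 2 ^ (L + 1) := Nat.lt_pow_succ_log_self (by norm_num) e
  have hL8 : 8 ≤ L := Nat.le_log_of_pow_le (by norm_num) he
  calc autBound e ≤ e ^ (2 + 4 * L) := autBound_le he0
    _ < (2 ^ (L + 1)) ^ (2 + 4 * L) := Nat.pow_lt_pow_left h2 (by omega)
    _ = 2 ^ ((L + 1) * (4 * L + 2)) := by rw [← pow_mul]; ring_nf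
    _ ≤ 2 ^ (3 * (2 ^ (L - 1) - 1)) := Nat.pow_le_pow_right (by norm_num) (large_e_bound L hL8)
    _ ≤ 9 ^ (2 ^ (L - 1) - 1) := by rw [pow_mul]; exact Nat.pow_le_pow_left (by norm_num) _
    _ = 3 ^ (2 * (2 ^ (L - 1) - 1)) := by rw [pow_mul]; norm_num
    _ ≤ 3 ^ (e - 2) := Nat.pow_le_pow_right (by norm_num) (by
        have : 2 * 2 ^ (L - 1) = 2 ^ L := by rw [← pow_succ']; congr 1; omega
        omega)

/-- The surviving parameters. -/
theorem transLinear_survivors {q k e m : ℕ} (hq : 2 ≤ q) (hk : 1 ≤ k) (he : 2 ≤ e) (hem : e ≤ m)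
    (hrad : ∀ p ∈ e.primeFactors, p ∣ q ^ k - 1)
    (hdvd : (q ^ k) ^ m - 1 ∣ (q ^ k - 1) * (k * autBound e)) :
    (e = 2 ∧ m = 2 ∧ q ^ k ∈ [3, 5, 7, 11, 23]) ∨ (e = 4 ∧ m = 4 ∧ q ^ k = 3) := by
  set Q := q ^ k with hQ
  have hkQ : 2 ^ k ≤ Q := Nat.pow_le_pow_left hq k
  have hQ2 : 2 ≤ Q := hq.trans (Nat.le_self_pow (by omega) q)
  have hprod : ∏ p ∈ e.primeFactors, p ∣ Q - 1 :=
    Finset.prod_primes_dvd _ (fun p hp => (Nat.prime_of_mem_primeFactors hp).prime) hrad
  have hrad2 : 2 ≤ ∏ p ∈ e.primeFactors, p := by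
    obtain ⟨p, hp⟩ := Nat.nonempty_primeFactors.2 he
    exact (Nat.prime_of_mem_primeFactors hp).two_le.trans (Nat.le_of_dvd
      (Finset.prod_pos fun r hr => (Nat.prime_of_mem_primeFactors hr).pos) (Finset.dvd_prod_of_mem id hp))
  have hradQ : (∏ p ∈ e.primeFactors, p) + 1 ≤ Q := by
    have := Nat.le_of_dvd (by omega) hprod; omega
  have hQ3 : 3 ≤ Q := by omega
  have hBpos := autBound_pos (show e ≠ 0 by omega)
  have hkB : 0 < k * autBound e := Nat.mul_pos hk hBpos
  have hsize : Q ^ (m - 1) ≤ k * autBound e := by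
    have h1 := Nat.le_of_dvd (Nat.mul_pos (by omega) hkB) hdvd
    have h2 : Q ^ m = Q * Q ^ (m - 1) := by rw [← pow_succ']; congr 1; omega
    have h3 : 0 < Q ^ (m - 1) := pow_pos (by omega) _
    have h4 : Q ^ (m - 1) * (Q - 1) ≤ Q ^ m - 1 := by
      rw [h2, Nat.mul_sub, mul_one, mul_comm]; omega
    exact Nat.le_of_mul_le_mul_right (h4.trans (h1.trans_eq (mul_comm _ _))) (by omega)
  have hkleQ : k ≤ Q := (Nat.lt_two_pow_self).le.trans hkQ
  have hsize2 : Q ^ (m - 2) ≤ autBound e := by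
    refine Nat.le_of_mul_le_mul_left ?_ (show 0 < Q by omega)
    rw [← pow_succ', show m - 2 + 1 = m - 1 by omega]
    exact hsize.trans (Nat.mul_le_mul_right _ hkleQ)
  have he256 : e < 256 := by
    by_contra h
    push Not at h
    have := autBound_lt_of_large h
    have : 3 ^ (e - 2) ≤ Q ^ (m - 2) :=
      (Nat.pow_le_pow_left hQ3 _).trans (Nat.pow_le_pow_right (by omega) (by omega))
    omega
  have hBC := autBoundC_eq (show e ≠ 0 by omega) he256
  have hpd := primeDivs_toFinset (show e ≠ 0 by omega) he256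
  have heE : e ∈ exceptE := by
    refine (mem_exceptE e he256 he).resolve_right fun h => ?_
    have hprod' : (primeDivs e).prod = ∏ p ∈ e.primeFactors, p := by
      rw [← hpd, List.prod_toFinset _ (show (primeDivs e).Nodup from smallPrimes_nodup.filter _), List.map_id']
    rw [hBC, hprod'] at h
    have : ((∏ p ∈ e.primeFactors, p) + 1) ^ (e - 2) ≤ Q ^ (m - 2) :=
      (Nat.pow_le_pow_left hradQ _).trans (Nat.pow_le_pow_right (by omega) (by omega))
    omega
  obtain ⟨hb1, hb2⟩ := exceptE_bounds e heE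
  rw [hBC] at hb1 hb2
  have hQ170 : Q < 170 := by
    by_contra h
    push Not at h
    rcases hb2 with rfl | hb2
    · have h1 : Q ^ 1 ≤ Q ^ (m - 1) := Nat.pow_le_pow_right (by omega) (by omega)
      have h24 : autBound 2 = 24 := by rw [← hBC]; decide +kernel
      rw [h24] at hsize
      rw [pow_one] at h1
      have hk8 : k < 8 := by
        by_contra h8
        push Not at h8
        have h5 : ∀ j, 8 ≤ j → j * 24 < 2 ^ j := by
          intro j hj
          induction j, hj using Nat.le_induction with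
          | base => norm_num
          | succ j hj ih => rw [pow_succ]; omega
        have := h5 k h8
        omega
      omega
    · have hkk : k * k ≤ Q := by
        rcases Nat.lt_or_ge k 13 with h13 | h13
        · nlinarith
        · have : ∀ j, 4 ≤ j → j * j ≤ 2 ^ j := by
            intro j hj
            induction j, hj using Nat.le_induction with
            | base => norm_num
            | succ j hj ih => rw [pow_succ]; nlinarith
          exact (this k (by omega)).trans hkQ
      have h1 : Q ^ (e - 1) * Q ^ (e - 1) ≤ Q * (autBound e * autBound e) := by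
        have h2 : Q ^ (e - 1) ≤ k * autBound e :=
          (Nat.pow_le_pow_right (by omega) (by omega)).trans hsize
        calc Q ^ (e - 1) * Q ^ (e - 1) ≤ k * autBound e * (k * autBound e) := Nat.mul_le_mul h2 h2
          _ = k * k * (autBound e * autBound e) := by ring
          _ ≤ _ := Nat.mul_le_mul_right _ hkk
      rw [← pow_add, show e - 1 + (e - 1) = 2 * e - 3 + 1 by omega, pow_succ'] at h1
      have h3 := Nat.le_of_mul_le_mul_left h1 (by omega)
      have : 170 ^ (2 * e - 3) ≤ Q ^ (2 * e - 3) := Nat.pow_le_pow_left h _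
      omega
  obtain ⟨j, rfl⟩ : ∃ j, m = e + j := ⟨m - e, by omega⟩
  have hj : j < 48 := by
    by_contra h
    push Not at h
    have : 3 ^ (e + 45) ≤ Q ^ (e + j - 2) :=
      (Nat.pow_le_pow_left hQ3 _).trans (Nat.pow_le_pow_right (by omega) (by omega))
    omega
  have hk8 : k < 8 := by
    by_contra h
    push Not at h
    have : 2 ^ 8 ≤ 2 ^ k := Nat.pow_le_pow_right (by norm_num) h
    omega
  have hq170 : q < 170 := (Nat.le_self_pow (by omega) q).trans_lt hQ170
  have hkk := powExp_spec q hq170 k hk8 hq hk hQ170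
  rw [← hQ] at hkk
  have hd : Q ^ (e + j) - 1 ∣ (Q - 1) * (powExp Q * autBoundC e) :=
    hdvd.trans (by rw [hBC]; exact Nat.mul_dvd_mul_left _ (Nat.mul_dvd_mul_right hkk _))
  rcases survivors_table e heE Q hQ170 hQ3
      (fun p hp => hrad p (hpd ▸ List.mem_toFinset.2 hp)) j hj hd with ⟨h1, h2, h3⟩ | ⟨h1, h2, h3⟩
  · exact Or.inl ⟨h1, by omega, h3⟩
  · exact Or.inr ⟨h1, by omega, h3⟩

end CfsgLib.Char
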