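import Mathlib
import Cfsg.Agent.Lib.Char.TransLinear.Arith

/-!
# Automorphisms of abelian groups of square-free exponent; alternating pairings
-/

set_option autoImplicit false
set_option linter.style.haveILetI false

namespace CfsgLib.Char

open Module

theorem card_addEquiv_of_zmodModule {p n : ℕ} [Fact p.Prime] {W : Type*} [AddCommGroup W] [Module (ZMod p) W]
    [Finite W] (hcard : Nat.card W = p ^ n) : Nat.card (W ≃+ W) = glCard n p := by
  classical
  haveI : Module.Finite (ZMod p) W := Module.Finite.of_finite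
  have hn : finrank (ZMod p) W = n := by
    apply Nat.pow_right_injective (Fact.out : p.Prime).two_le
    show p ^ finrank (ZMod p) W = p ^ n
    rw [← hcard, Module.natCard_eq_pow_finrank (K := ZMod p), Nat.card_zmod]
  let b : Basis (Fin n) (ZMod p) W := Module.finBasisOfFinrankEq (ZMod p) W hn
  let e₁ : (W ≃+ W) ≃ (W ≃ₗ[ZMod p] W) :=
    { toFun := fun α => { α with map_smul' := fun c x => ZMod.map_smul α.toAddMonoidHom c x }
      invFun := fun f => f.toAddEquiv
      left_inv := fun α => by ext; rfl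
      right_inv := fun f => by ext; rfl }
  let e₂ : (W ≃ₗ[ZMod p] W) ≃ ((Fin n → ZMod p) ≃ₗ[ZMod p] (Fin n → ZMod p)) :=
    { toFun := fun f => b.equivFun.symm.trans (f.trans b.equivFun)
      invFun := fun g => b.equivFun.trans (g.trans b.equivFun.symm)
      left_inv := fun f => LinearEquiv.ext fun v => by simp only [LinearEquiv.trans_apply, LinearEquiv.symm_apply_apply]
      right_inv := fun g => LinearEquiv.ext fun v => by simp only [LinearEquiv.trans_apply, LinearEquiv.apply_symm_apply] }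
  let e₃ : ((Fin n → ZMod p) ≃ₗ[ZMod p] (Fin n → ZMod p)) ≃ GL (Fin n) (ZMod p) :=
    (Matrix.GeneralLinearGroup.toLin.trans
      (LinearMap.GeneralLinearGroup.generalLinearEquiv (ZMod p) (Fin n → ZMod p))).toEquiv.symm
  rw [Nat.card_congr ((e₁.trans e₂).trans e₃), Matrix.card_GL_field, ZMod.card, glCard,
    Fin.prod_univ_eq_prod_range (fun i => p ^ n - p ^ i) n]

theorem card_mulAut_of_exponent_prime {p n : ℕ} [Fact p.Prime] {E : Type*} [CommGroup E] [Finite E]
    (hexp : ∀ x : E, x ^ p = 1) (hcard : Nat.card E = p ^ n) : Nat.card (MulAut E) = glCard n p := by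
  haveI : Finite (Additive E) := Finite.of_equiv E Additive.ofMul
  have hp0 : ∀ a : Additive E, p • a = 0 := fun a => congrArg Additive.ofMul (hexp a.toMul)
  rw [Nat.card_congr (MulEquiv.toAdditive (G := E) (H := E))]
  exact @card_addEquiv_of_zmodModule p n _ (Additive E) Additive.addCommGroup (AddCommGroup.zmodModule hp0) _
    (by rw [← hcard]; exact Nat.card_congr Additive.toMul)

theorem pow_prime_eq_one_of_pow {B : Type*} [Monoid B] {p : ℕ} (hsq : ∀ x : B, x ^ (p ^ 2) = 1 → x ^ p = 1) :
    ∀ (j : ℕ) (x : B), x ^ (p ^ j) = 1 → x ^ p = 1 := by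
  intro j
  induction j with
  | zero => intro x hx; rw [pow_zero, pow_one] at hx; rw [hx, one_pow]
  | succ j ih =>
    intro x hx
    refine hsq x ?_
    rw [pow_succ', pow_mul] at hx
    rw [pow_two, pow_mul]
    exact ih _ hx

/-- The elements killed by `p`. -/
def killedBy (B : Type*) [CommGroup B] (p : ℕ) : Subgroup B := (powMonoidHom p).ker

theorem mem_killedBy {B : Type*} [CommGroup B] {p : ℕ} {x : B} : x ∈ killedBy B p ↔ x ^ p = 1 := Iff.rfl

/-- Restriction of automorphisms to the elements killed by `p`. -/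
def restrictKilledBy (B : Type*) [CommGroup B] (p : ℕ) : MulAut B →* MulAut (killedBy B p) where
  toFun α :=
    { toFun := fun x => ⟨α x, mem_killedBy.2 (by rw [← map_pow, mem_killedBy.1 x.2, map_one])⟩
      invFun := fun x => ⟨α.symm x, mem_killedBy.2 (by rw [← map_pow, mem_killedBy.1 x.2, map_one])⟩
      left_inv := fun x => Subtype.ext (α.symm_apply_apply _)
      right_inv := fun x => Subtype.ext (α.apply_symm_apply _)
      map_mul' := fun x y => Subtype.ext (map_mul α (x : B) (y : B)) }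
  map_one' := rfl
  map_mul' _ _ := rfl

theorem sylow_eq_killedBy {B : Type*} [CommGroup B] [Finite B] {p : ℕ} [Fact p.Prime]
    (hsq : ∀ x : B, x ^ (p ^ 2) = 1 → x ^ p = 1) (P : Sylow p B) : killedBy B p = P := by
  have hle : (P : Subgroup B) ≤ killedBy B p := by
    intro x hx
    obtain ⟨j, hj⟩ := P.2 ⟨x, hx⟩
    exact mem_killedBy.2 (pow_prime_eq_one_of_pow hsq j x (congrArg Subtype.val hj))
  exact P.3 (fun x => ⟨1, Subtype.ext (by rw [pow_one]; exact mem_killedBy.1 x.2)⟩) hle

theorem card_mulAut_dvd_of_squarefree_exponent {B : Type*} [CommGroup B] [Finite B]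
    (hsq : ∀ p : ℕ, p.Prime → ∀ x : B, x ^ (p ^ 2) = 1 → x ^ p = 1) :
    Nat.card (MulAut B) ∣ ∏ p ∈ (Nat.card B).primeFactors, glCard ((Nat.card B).factorization p) p := by
  classical
  set s := (Nat.card B).primeFactors with hs
  let f : MulAut B →* ((p : s) → MulAut (killedBy B (p : ℕ))) :=
    MonoidHom.mk' (fun α p => restrictKilledBy B p α) (fun α β => funext fun p => map_mul _ α β)
  have hf : Function.Injective f := by
    intro α β h
    let S : Subgroup B := MonoidHom.eqLocus α.toMonoidHom β.toMonoidHom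
    have hS : S = ⊤ := by
      apply Subgroup.eq_top_of_card_eq
      refine Nat.dvd_antisymm S.card_subgroup_dvd_card ((Nat.dvd_iff_prime_pow_dvd_dvd _ _).2 fun p j hp hd => ?_)
      rcases Nat.eq_zero_or_pos j with rfl | hj
      · simp
      haveI := Fact.mk hp
      have hps : p ∈ s := Nat.mem_primeFactors.2 ⟨hp, (dvd_pow_self p hj.ne').trans hd, Nat.card_pos.ne'⟩
      obtain ⟨P⟩ : Nonempty (Sylow p B) := inferInstance
      have hPS : (P : Subgroup B) ≤ S := fun x hx => by
        have hx' : x ∈ killedBy B p := sylow_eq_killedBy (hsq p hp) P ▸ hx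
        exact congrArg Subtype.val (DFunLike.congr_fun (congrFun h ⟨p, hps⟩) ⟨x, hx'⟩)
      exact (P.pow_dvd_card_of_pow_dvd_card hd).trans (Subgroup.card_dvd_of_le hPS)
    exact MulEquiv.ext fun x => (show x ∈ S from hS ▸ Subgroup.mem_top x)
  have hfin : Nat.card ((p : s) → MulAut (killedBy B (p : ℕ))) = ∏ p ∈ s, glCard ((Nat.card B).factorization p) p := by
    rw [Nat.card_pi, ← Finset.prod_coe_sort s (fun p => glCard ((Nat.card B).factorization p) p)]
    refine Finset.prod_congr rfl fun p _ => ?_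
    haveI := Fact.mk (Nat.prime_of_mem_primeFactors p.2)
    obtain ⟨P⟩ : Nonempty (Sylow (p : ℕ) B) := inferInstance
    refine card_mulAut_of_exponent_prime (fun x => Subtype.ext (mem_killedBy.1 x.2)) ?_
    rw [sylow_eq_killedBy (hsq p Fact.out) P]
    exact P.card_eq_multiplicity
  rw [← hfin]
  exact Subgroup.card_dvd_of_injective f hf

/-- A group of exponent `p` with a non-degenerate alternating pairing has square order. -/
theorem exists_card_eq_pow_two_mul_of_pairing {p : ℕ} [Fact p.Prime] {Z : Type*} [CommGroup Z] [Finite Z]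
    (hZ : Nat.card (killedBy Z p) ≤ p) :
    ∀ (n : ℕ) (B : Type*) [CommGroup B] [Finite B], Nat.card B = n → (∀ x : B, x ^ p = 1) →
      ∀ β : B →* B →* Z, (∀ x, β x x = 1) → (∀ x, (∀ y, β x y = 1) → x = 1) → ∃ s, n = p ^ (2 * s) := by
  classical
  intro n
  induction n using Nat.strong_induction_on with
  | _ n ih =>
  intro B _ _ hn hexp β halt hnd
  subst hn
  rcases subsingleton_or_nontrivial B with h | h
  · exact ⟨0, by simp⟩
  obtain ⟨x, hx⟩ := exists_ne (1 : B)
  obtain ⟨y, hy⟩ : ∃ y, β x y ≠ 1 := by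
    by_contra! h'
    exact hx (hnd x h')
  have hskew : ∀ a b, β b a = (β a b)⁻¹ := fun a b => by
    have := halt (a * b)
    simp only [map_mul, MonoidHom.mul_apply, halt, one_mul, mul_one] at this
    first
      | exact eq_inv_of_mul_eq_one_right this
      | exact eq_inv_of_mul_eq_one_left this
  set z := β x y with hz
  have hzp : z ^ p = 1 := by rw [hz, ← map_pow, hexp, map_one]
  have hzo : orderOf z = p := orderOf_eq_prime hzp hy
  have hval : ∀ a b, β a b ∈ killedBy Z p := fun a b => mem_killedBy.2 (by rw [← map_pow, hexp, map_one])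
  have hZeq : Subgroup.zpowers z = killedBy Z p :=
    Subgroup.eq_of_le_of_card_ge (Subgroup.zpowers_le.2 (hval x y)) (by rw [Nat.card_zpowers, hzo]; exact hZ)
  let φ : B →* Z × Z := (β x).prod (β y)
  have hrange : φ.range = (Subgroup.zpowers z).prod (Subgroup.zpowers z) := by
    refine le_antisymm ?_ ?_
    · rintro _ ⟨b, rfl⟩
      rw [hZeq]
      exact ⟨hval x b, hval y b⟩
    · intro w hw
      obtain ⟨⟨i, hi⟩, ⟨j, hj⟩⟩ : (∃ i : ℤ, z ^ i = w.1) ∧ ∃ j : ℤ, z ^ j = w.2 := hw
      refine ⟨y ^ i * x ^ (-j), Prod.ext ?_ ?_⟩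
      · show β x (y ^ i * x ^ (-j)) = w.1
        rw [map_mul, map_zpow, map_zpow, halt, one_zpow, mul_one, ← hz, hi]
      · show β y (y ^ i * x ^ (-j)) = w.2
        rw [map_mul, map_zpow, map_zpow, halt, one_zpow, one_mul, hskew x y, ← hz, inv_zpow', neg_neg, hj]
  set W := φ.ker with hW
  have hidx : W.index = p * p := by
    rw [hW, Subgroup.index_ker, hrange, Nat.card_congr (Subgroup.prodEquiv _ _).toEquiv, Nat.card_prod,
      Nat.card_zpowers, hzo]
  have hWmem : ∀ w ∈ W, β x w = 1 ∧ β y w = 1 := fun w hw =>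
    ⟨congrArg Prod.fst (MonoidHom.mem_ker.1 hw), congrArg Prod.snd (MonoidHom.mem_ker.1 hw)⟩
  have hlt : Nat.card W < Nat.card B := by
    rw [← W.index_mul_card, hidx]
    have := (Fact.out : p.Prime).two_le
    exact lt_mul_left Nat.card_pos (by nlinarith)
  let β' : W →* W →* Z :=
    MonoidHom.mk' (fun a => (β a).comp W.subtype) (fun a b => by ext c; simp)
  obtain ⟨s, hs⟩ := ih _ hlt W rfl (fun a => Subtype.ext (hexp a)) β' (fun a => halt a) (fun a ha => by
    refine Subtype.ext (hnd _ fun b => ?_)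
    have hb : φ b ∈ φ.range := ⟨b, rfl⟩
    rw [hrange] at hb
    obtain ⟨⟨i, hi⟩, ⟨j, hj⟩⟩ : (∃ i : ℤ, z ^ i = β x b) ∧ ∃ j : ℤ, z ^ j = β y b := hb
    have hb' : b * (y ^ i * x ^ (-j))⁻¹ ∈ W := by
      rw [hW, MonoidHom.mem_ker]
      refine Prod.ext ?_ ?_
      · show β x (b * (y ^ i * x ^ (-j))⁻¹) = 1
        rw [map_mul, map_inv, map_mul, map_zpow, map_zpow, halt, one_zpow, mul_one, ← hz, hi, mul_inv_cancel]
      · show β y (b * (y ^ i * x ^ (-j))⁻¹) = 1
        rw [map_mul, map_inv, map_mul, map_zpow, map_zpow, halt, one_zpow, one_mul, hskew x y, ← hz, inv_zpow',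
          neg_neg, hj, mul_inv_cancel]
    have h1 : β (a : B) (b * (y ^ i * x ^ (-j))⁻¹) = 1 := ha ⟨_, hb'⟩
    rw [map_mul, map_inv, map_mul, map_zpow, map_zpow, hskew y (a : B), hskew x (a : B), (hWmem a a.2).1,
      (hWmem a a.2).2, inv_one, one_zpow, one_zpow, one_mul, inv_one, mul_one] at h1
    exact h1)
  refine ⟨s + 1, ?_⟩
  rw [← W.index_mul_card, hidx, hs, show 2 * (s + 1) = 2 * s + 1 + 1 by ring, pow_succ, pow_succ]
  ring

end CfsgLib.Char
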