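import Mathlib

/-!
# Normal abelian subgroups of transitive linear groups span fields
-/

set_option autoImplicit false
set_option linter.style.haveILetI false

namespace CfsgLib.Char

open Module

variable {q : ℕ} {V : Type*} [AddCommGroup V] [Module (ZMod q) V] {G : Type*} [Group G]

/-- A representation, seen in the endomorphism ring. -/
def toEndHom (ρ : G →* (V ≃ₗ[ZMod q] V)) : G →* Module.End (ZMod q) V where
  toFun g := (ρ g).toLinearMap
  map_one' := by ext; simp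
  map_mul' := fun g h => by ext; simp

@[simp] theorem toEndHom_apply (ρ : G →* (V ≃ₗ[ZMod q] V)) (g : G) (v : V) : toEndHom ρ g v = ρ g v := rfl

theorem toEndHom_injective {ρ : G →* (V ≃ₗ[ZMod q] V)} (hρ : Function.Injective ρ) :
    Function.Injective (toEndHom ρ) := fun g h e => hρ (LinearEquiv.toLinearMap_injective e)

/-- Conjugation in the endomorphism ring. -/
def conjEnd (ρ : G →* (V ≃ₗ[ZMod q] V)) (g : G) : Module.End (ZMod q) V →ₐ[ZMod q] Module.End (ZMod q) V where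
  toFun r := toEndHom ρ g * r * toEndHom ρ g⁻¹
  map_one' := by rw [mul_one, ← map_mul, mul_inv_cancel, map_one]
  map_mul' r s := by
    have h : toEndHom ρ g⁻¹ * toEndHom ρ g = 1 := by rw [← map_mul, inv_mul_cancel, map_one]
    calc toEndHom ρ g * (r * s) * toEndHom ρ g⁻¹
        = toEndHom ρ g * r * 1 * s * toEndHom ρ g⁻¹ := by simp [mul_assoc]
      _ = _ := by rw [← h]; simp [mul_assoc]
  map_zero' := by simp
  map_add' r s := by rw [mul_add, add_mul]
  commutes' c := by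
    rw [← Algebra.commutes, mul_assoc, ← map_mul, mul_inv_cancel, map_one, mul_one]

theorem conjEnd_apply (ρ : G →* (V ≃ₗ[ZMod q] V)) (g : G) (r : Module.End (ZMod q) V) :
    conjEnd ρ g r = toEndHom ρ g * r * toEndHom ρ g⁻¹ := rfl

theorem conjEnd_apply_smul (ρ : G →* (V ≃ₗ[ZMod q] V)) (g : G) (r : Module.End (ZMod q) V) (v : V) :
    conjEnd ρ g r (ρ g v) = ρ g (r v) := by
  simp [conjEnd_apply, Module.End.mul_apply]

theorem conjEnd_toEndHom (ρ : G →* (V ≃ₗ[ZMod q] V)) (g a : G) :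
    conjEnd ρ g (toEndHom ρ a) = toEndHom ρ (g * a * g⁻¹) := by
  rw [conjEnd_apply, map_mul, map_mul]

theorem conjEnd_one (ρ : G →* (V ≃ₗ[ZMod q] V)) (r : Module.End (ZMod q) V) : conjEnd ρ 1 r = r := by
  simp [conjEnd_apply]

theorem conjEnd_mul (ρ : G →* (V ≃ₗ[ZMod q] V)) (g h : G) (r : Module.End (ZMod q) V) :
    conjEnd ρ (g * h) r = conjEnd ρ g (conjEnd ρ h r) := by
  rw [conjEnd_apply, conjEnd_apply, conjEnd_apply, mul_inv_rev, map_mul, map_mul]
  simp only [mul_assoc]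

/-- The subalgebra spanned by a subgroup. -/
def spanAlg (ρ : G →* (V ≃ₗ[ZMod q] V)) (A : Subgroup G) : Subalgebra (ZMod q) (Module.End (ZMod q) V) :=
  Algebra.adjoin (ZMod q) (toEndHom ρ '' A)

theorem toEndHom_mem_spanAlg (ρ : G →* (V ≃ₗ[ZMod q] V)) {A : Subgroup G} {a : G} (ha : a ∈ A) :
    toEndHom ρ a ∈ spanAlg ρ A :=
  Algebra.subset_adjoin ⟨a, ha, rfl⟩

theorem conjEnd_mem_spanAlg (ρ : G →* (V ≃ₗ[ZMod q] V)) {A : Subgroup G} [hA : A.Normal] (g : G)
    {r : Module.End (ZMod q) V} (hr : r ∈ spanAlg ρ A) : conjEnd ρ g r ∈ spanAlg ρ A := by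
  have h : (spanAlg ρ A).map (conjEnd ρ g) ≤ spanAlg ρ A := by
    rw [spanAlg, AlgHom.map_adjoin]
    refine Algebra.adjoin_mono ?_
    rintro _ ⟨_, ⟨a, ha, rfl⟩, rfl⟩
    exact ⟨g * a * g⁻¹, hA.conj_mem a ha g, (conjEnd_toEndHom ρ g a).symm⟩
  exact h ⟨r, hr, rfl⟩

/-- Elements of `G` centralizing `A` commute with the span of `A`. -/
theorem commute_spanAlg (ρ : G →* (V ≃ₗ[ZMod q] V)) {A : Subgroup G} {g : G}
    (hg : ∀ a ∈ A, Commute g a) {r : Module.End (ZMod q) V} (hr : r ∈ spanAlg ρ A) :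
    Commute (toEndHom ρ g) r := by
  refine Algebra.adjoin_induction (p := fun r _ => Commute (toEndHom ρ g) r) ?_ ?_ ?_ ?_ hr
  · rintro _ ⟨a, ha, rfl⟩
    exact (hg a ha).map (toEndHom ρ)
  · exact fun c => Algebra.commute_algebraMap_right c _
  · exact fun _ _ _ _ h₁ h₂ => h₁.add_right h₂
  · exact fun _ _ _ _ h₁ h₂ => h₁.mul_right h₂

theorem commute_in_spanAlg (ρ : G →* (V ≃ₗ[ZMod q] V)) {A : Subgroup G} (hA : ∀ a ∈ A, ∀ b ∈ A, a * b = b * a)
    {r s : Module.End (ZMod q) V} (hr : r ∈ spanAlg ρ A) (hs : s ∈ spanAlg ρ A) : Commute r s := by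
  refine Algebra.adjoin_induction (p := fun r _ => Commute r s) ?_ ?_ ?_ ?_ hr
  · rintro _ ⟨a, ha, rfl⟩
    exact commute_spanAlg ρ (fun b hb => hA a ha b hb) hs
  · exact fun c => Algebra.commute_algebraMap_left c _
  · exact fun _ _ _ _ h₁ h₂ => h₁.add_left h₂
  · exact fun _ _ _ _ h₁ h₂ => h₁.mul_left h₂

section Field

variable [Finite V] [Nontrivial V]

theorem exists_common_kernel {R : Type*} [Ring R] [Module R V] (S : Finset R)
    (hc : ∀ x ∈ S, ∀ y ∈ S, Commute x y) (hn : ∀ x ∈ S, IsNilpotent x) :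
    ∃ v : V, v ≠ 0 ∧ ∀ x ∈ S, x • v = 0 := by
  classical
  induction S using Finset.induction_on with
  | empty =>
    obtain ⟨v, hv⟩ := exists_ne (0 : V)
    exact ⟨v, hv, by simp⟩
  | insert x S hx ih =>
    obtain ⟨v, hv, hS⟩ := ih (fun a ha b hb => hc a (Finset.mem_insert_of_mem ha) b (Finset.mem_insert_of_mem hb))
      (fun a ha => hn a (Finset.mem_insert_of_mem ha))
    obtain ⟨n, hn'⟩ := hn x (Finset.mem_insert_self x S)
    have hex : ∃ i, x ^ i • v = 0 := ⟨n, by rw [hn', zero_smul]⟩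
    have h0 : Nat.find hex ≠ 0 := fun h => hv (by
      have := Nat.find_spec hex
      rwa [h, pow_zero, one_smul] at this)
    obtain ⟨i, hi⟩ := Nat.exists_eq_succ_of_ne_zero h0
    refine ⟨x ^ i • v, Nat.find_min hex (by omega), fun y hy => ?_⟩
    rcases Finset.mem_insert.1 hy with rfl | hy
    · rw [← mul_smul, ← pow_succ']
      have := Nat.find_spec hex
      rwa [hi] at this
    · rw [← mul_smul, ((hc y (Finset.mem_insert_of_mem hy) x (Finset.mem_insert_self x S)).pow_right i).eq,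
        mul_smul, hS y hy, smul_zero]

variable [Fact q.Prime]

theorem finite_moduleEnd : Finite (Module.End (ZMod q) V) :=
  Finite.of_injective (fun f => (f : V → V)) DFunLike.coe_injective

/-- In a transitive group the span of a normal abelian subgroup has no nilpotent elements. -/
theorem spanAlg_reduced (ρ : G →* (V ≃ₗ[ZMod q] V)) (htr : ∀ v w : V, v ≠ 0 → w ≠ 0 → ∃ g : G, ρ g v = w)
    (A : Subgroup G) [A.Normal] (hA : ∀ a ∈ A, ∀ b ∈ A, a * b = b * a)
    {x : Module.End (ZMod q) V} (hx : x ∈ spanAlg ρ A) (hn : IsNilpotent x) : x = 0 := by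
  classical
  haveI := finite_moduleEnd (q := q) (V := V)
  haveI := Fintype.ofFinite (Module.End (ZMod q) V)
  let S := (Finset.univ : Finset (Module.End (ZMod q) V)).filter (fun y => y ∈ spanAlg ρ A ∧ IsNilpotent y)
  obtain ⟨v, hv, hS⟩ := exists_common_kernel (V := V) S
    (fun a ha b hb => commute_in_spanAlg ρ hA (Finset.mem_filter.1 ha).2.1 (Finset.mem_filter.1 hb).2.1)
    (fun a ha => (Finset.mem_filter.1 ha).2.2)
  ext w
  by_cases hw : w = 0
  · simp [hw]
  obtain ⟨g, rfl⟩ := htr v w hv hw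
  have hmem : conjEnd ρ g⁻¹ x ∈ S := Finset.mem_filter.2
    ⟨Finset.mem_univ _, conjEnd_mem_spanAlg ρ g⁻¹ hx, hn.map (conjEnd ρ g⁻¹)⟩
  have h0 := hS _ hmem
  rw [Module.End.smul_def] at h0
  have h1 := conjEnd_apply_smul ρ g (conjEnd ρ g⁻¹ x) v
  rw [← conjEnd_mul, mul_inv_cancel, conjEnd_one, h0, map_zero] at h1
  simpa using h1

/-- In a transitive group the span of a normal abelian subgroup has no idempotents but `0` and `1`. -/
theorem spanAlg_idempotent (ρ : G →* (V ≃ₗ[ZMod q] V)) (htr : ∀ v w : V, v ≠ 0 → w ≠ 0 → ∃ g : G, ρ g v = w)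
    (A : Subgroup G) [A.Normal] (hA : ∀ a ∈ A, ∀ b ∈ A, a * b = b * a)
    {e : Module.End (ZMod q) V} (he : e ∈ spanAlg ρ A) (hee : e * e = e) : e = 0 ∨ e = 1 := by
  classical
  haveI := finite_moduleEnd (q := q) (V := V)
  by_contra! h
  obtain ⟨v₁, hv₁, hev₁⟩ : ∃ v : V, v ≠ 0 ∧ e v = v := by
    obtain ⟨u, hu⟩ := DFunLike.ne_iff.1 h.1
    refine ⟨e u, hu, ?_⟩
    rw [← Module.End.mul_apply, hee]
  obtain ⟨v₂, hv₂, hev₂⟩ : ∃ v : V, v ≠ 0 ∧ e v = 0 := by
    obtain ⟨u, hu⟩ := DFunLike.ne_iff.1 h.2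
    refine ⟨e u - u, sub_ne_zero.2 hu, ?_⟩
    rw [map_sub, ← Module.End.mul_apply, hee, sub_self]
  let orb : V → Set V := fun v => (fun r : Module.End (ZMod q) V => r v) '' (spanAlg ρ A : Set (Module.End (ZMod q) V))
  have hconst : ∀ v w : V, v ≠ 0 → w ≠ 0 → Nat.card (orb v) ≤ Nat.card (orb w) := by
    intro v w hv hw
    obtain ⟨g, rfl⟩ := htr v w hv hw
    have hsub : (ρ g) '' orb v ⊆ orb (ρ g v) := by
      rintro _ ⟨_, ⟨r, hr, rfl⟩, rfl⟩
      exact ⟨conjEnd ρ g r, conjEnd_mem_spanAlg ρ g hr, conjEnd_apply_smul ρ g r v⟩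
    refine le_trans ?_ (Nat.card_mono (Set.toFinite _) hsub)
    rw [Nat.card_image_of_injective (ρ g).injective]
  have hv12 : v₁ + v₂ ≠ 0 := fun h0 => hv₁ (by
    have := congrArg (fun v => e v) h0
    simpa [hev₁, hev₂] using this)
  have hprod : Nat.card (orb v₁) * Nat.card (orb v₂) ≤ Nat.card (orb (v₁ + v₂)) := by
    rw [← Nat.card_prod]
    refine Nat.card_le_card_of_injective (fun p => ⟨(p.1 : V) + p.2, ?_⟩) ?_
    · obtain ⟨⟨-, r, hr, rfl⟩, ⟨-, s, hs, rfl⟩⟩ := p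
      refine ⟨r * e + s * (1 - e), add_mem (mul_mem hr he) (mul_mem hs (sub_mem (one_mem _) he)), ?_⟩
      simp [Module.End.mul_apply, hev₁, hev₂]
    · rintro ⟨⟨-, r, hr, rfl⟩, ⟨-, s, hs, rfl⟩⟩ ⟨⟨-, r', hr', rfl⟩, ⟨-, s', hs', rfl⟩⟩ hp
      have h0 : r v₁ + s v₂ = r' v₁ + s' v₂ := congrArg Subtype.val hp
      have key : ∀ t : Module.End (ZMod q) V, t ∈ spanAlg ρ A → ∀ v, e (t v) = t (e v) := fun t ht v => by
        rw [← Module.End.mul_apply, (commute_in_spanAlg ρ hA he ht).eq, Module.End.mul_apply]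
      have h1 := congrArg (fun v => e v) h0
      simp only [map_add, key r hr, key s hs, key r' hr', key s' hs', hev₁, hev₂, map_zero, add_zero] at h1
      rw [h1, add_left_cancel_iff] at h0
      exact Prod.ext (Subtype.ext h1) (Subtype.ext h0)
  have htwo : 2 ≤ Nat.card (orb v₁) := by
    haveI : Nontrivial (orb v₁) :=
      ⟨⟨⟨v₁, 1, one_mem _, rfl⟩, ⟨0, 0, zero_mem _, rfl⟩, fun hh => hv₁ (congrArg Subtype.val hh)⟩⟩
    exact Finite.one_lt_card
  have h2 := hconst _ _ hv12 hv₂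
  have h3 : 0 < Nat.card (orb v₂) := by
    haveI : Nonempty (orb v₂) := ⟨⟨v₂, 1, one_mem _, rfl⟩⟩
    exact Nat.card_pos
  nlinarith

theorem spanAlg_isField (ρ : G →* (V ≃ₗ[ZMod q] V)) (htr : ∀ v w : V, v ≠ 0 → w ≠ 0 → ∃ g : G, ρ g v = w)
    (A : Subgroup G) [A.Normal] (hA : ∀ a ∈ A, ∀ b ∈ A, a * b = b * a) : IsField (spanAlg ρ A) := by
  haveI := finite_moduleEnd (q := q) (V := V)
  refine ⟨⟨0, 1, ?_⟩, fun a b => Subtype.ext (commute_in_spanAlg ρ hA a.2 b.2), ?_⟩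
  · intro h
    obtain ⟨v, hv⟩ := exists_ne (0 : V)
    exact hv (DFunLike.congr_fun (congrArg Subtype.val h) v).symm
  · intro a ha
    obtain ⟨i, j, hij, hp⟩ : ∃ i j : ℕ, i < j ∧ a ^ i = a ^ j := by
      obtain ⟨i, j, hne, hp⟩ := Finite.exists_ne_map_eq_of_infinite (fun n : ℕ => a ^ n)
      rcases lt_or_gt_of_ne hne with h | h
      · exact ⟨i, j, h, hp⟩
      · exact ⟨j, i, h, hp.symm⟩
    obtain ⟨d, rfl⟩ : ∃ d, j = i + d := ⟨j - i, by omega⟩
    have hper : ∀ t, i ≤ t → a ^ (t + d) = a ^ t := fun t ht => by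
      obtain ⟨u, rfl⟩ := Nat.exists_eq_add_of_le ht
      rw [add_right_comm, pow_add, ← hp, ← pow_add]
    have hper' : ∀ c t, i ≤ t → a ^ (t + c * d) = a ^ t := by
      intro c
      induction c with
      | zero => simp
      | succ c ih => intro t ht; rw [add_mul, one_mul, ← add_assoc, hper _ (by omega), ih t ht]
    set m := (i + 1) * d with hm
    have him : i + 1 ≤ m := Nat.le_mul_of_pos_right _ (by omega)
    have hidem : a ^ m * a ^ m = a ^ m := by rw [← pow_add]; exact hper' (i + 1) m (by omega)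
    rcases spanAlg_idempotent ρ htr A hA (a ^ m).2 (congrArg Subtype.val hidem) with h | h
    · exact absurd (Subtype.ext (spanAlg_reduced ρ htr A hA a.2 ⟨m, h⟩)) ha
    · refine ⟨a ^ (m - 1), ?_⟩
      rw [← pow_succ', show m - 1 + 1 = m by omega]
      exact Subtype.ext h

end Field

end CfsgLib.Char
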