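import Mathlib
import Cfsg.Agent.Lib.Char.TransLinear.Field

/-!
# Semilinearity from a self-centralizing normal abelian subgroup
-/

set_option autoImplicit false
set_option linter.style.haveILetI false

namespace CfsgLib.Char

open Module


section IsFieldFacts

variable {R : Type*} [Ring R] (hR : IsField R)

include hR

theorem exists_card_eq_pow_of_isField (W : Type*) [AddCommGroup W] [Module R W] [Finite R] [Finite W] [Nontrivial W] :
    ∃ m : ℕ, 1 ≤ m ∧ Nat.card W = Nat.card R ^ m := by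
  letI F := hR.toField
  letI M : @Module R W F.toSemiring _ := (inferInstance : Module R W)
  haveI : Module.Finite R W := Module.Finite.of_finite
  exact ⟨finrank R W, Module.finrank_pos, Module.natCard_eq_pow_finrank⟩

theorem card_units_of_isField [Finite R] : Nat.card Rˣ = Nat.card R - 1 := by
  letI F := hR.toField
  exact Nat.card_units R

theorem card_algEquiv_of_isField {q : ℕ} [Fact q.Prime] [Algebra (ZMod q) R] [Finite R] :
    Nat.card (R ≃ₐ[ZMod q] R) = finrank (ZMod q) R := by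
  letI F := hR.toField
  letI alg : @Algebra (ZMod q) R _ F.toSemiring := (inferInstance : Algebra (ZMod q) R)
  exact IsGalois.card_aut_eq_finrank (ZMod q) R

theorem isCyclic_algEquiv_of_isField {q : ℕ} [Fact q.Prime] [Algebra (ZMod q) R] [Finite R] :
    IsCyclic (R ≃ₐ[ZMod q] R) := by
  letI F := hR.toField
  letI alg : @Algebra (ZMod q) R _ F.toSemiring := (inferInstance : Algebra (ZMod q) R)
  exact (inferInstance : IsCyclic (R ≃ₐ[ZMod q] R))

theorem exists_ringEquiv_galoisField {q k : ℕ} [Fact q.Prime] [Finite R] (hk : k ≠ 0) (h : Nat.card R = q ^ k) :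
    Nonempty (R ≃+* GaloisField q k) := by
  letI F := hR.toField
  haveI := Fintype.ofFinite R
  haveI := Fintype.ofFinite (GaloisField q k)
  exact ⟨FiniteField.ringEquivOfCardEq (K := R) (K' := GaloisField q k) (by
    rw [← Nat.card_eq_fintype_card, ← Nat.card_eq_fintype_card, h, GaloisField.card q k hk])⟩

end IsFieldFacts

/-- `G` acts on `V` as a semilinear group over a field with as many elements as `V`. -/
def IsSemilinearRep {q : ℕ} {V : Type*} [AddCommGroup V] [Module (ZMod q) V] {G : Type*} [Group G]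
    (ρ : G →* (V ≃ₗ[ZMod q] V)) : Prop :=
  ∃ (F : Type) (_ : Field F) (_ : Fintype F) (e : V ≃+ F),
    ∀ g : G, ∃ (a : F) (σ : F ≃+* F), ∀ v : V, e (ρ g v) = a * σ (e v)

variable {q : ℕ} [Fact q.Prime] {V : Type*} [AddCommGroup V] [Module (ZMod q) V] [Finite V] [Nontrivial V]
  {G : Type*} [Group G] [Finite G] (ρ : G →* (V ≃ₗ[ZMod q] V))

theorem card_sub_one_dvd_of_transitive (htr : ∀ v w : V, v ≠ 0 → w ≠ 0 → ∃ g : G, ρ g v = w) :
    Nat.card V - 1 ∣ Nat.card G := by
  classical
  letI : MulAction G V := MulAction.compHom V ρ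
  obtain ⟨v, hv⟩ := exists_ne (0 : V)
  have horb : MulAction.orbit G v = {x : V | x ≠ 0} := by
    ext w
    constructor
    · rintro ⟨g, rfl⟩
      exact fun h => hv ((ρ g).map_eq_zero_iff.1 h)
    · intro hw
      obtain ⟨g, hg⟩ := htr v w hv hw
      exact ⟨g, hg⟩
  have hc : Nat.card (MulAction.orbit G v) = Nat.card V - 1 := by
    rw [horb, Nat.card_coe_set_eq, show {x : V | x ≠ 0} = ({0} : Set V)ᶜ from rfl, Set.ncard_compl,
      Set.ncard_singleton]
  rw [← hc, Nat.card_congr (MulAction.orbitEquivQuotientStabilizer G v)]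
  exact Subgroup.card_quotient_dvd_card _

/-- The action of `G` on the span of a normal subgroup. -/
noncomputable def galHom (A : Subgroup G) [A.Normal] : G →* (spanAlg ρ A ≃ₐ[ZMod q] spanAlg ρ A) where
  toFun g := AlgEquiv.ofAlgHom
    (((conjEnd ρ g).comp (spanAlg ρ A).val).codRestrict (spanAlg ρ A) fun r => conjEnd_mem_spanAlg ρ g r.2)
    (((conjEnd ρ g⁻¹).comp (spanAlg ρ A).val).codRestrict (spanAlg ρ A) fun r => conjEnd_mem_spanAlg ρ g⁻¹ r.2)
    (AlgHom.ext fun r => Subtype.ext (by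
      show conjEnd ρ g (conjEnd ρ g⁻¹ r) = r
      rw [← conjEnd_mul, mul_inv_cancel, conjEnd_one]))
    (AlgHom.ext fun r => Subtype.ext (by
      show conjEnd ρ g⁻¹ (conjEnd ρ g r) = r
      rw [← conjEnd_mul, inv_mul_cancel, conjEnd_one]))
  map_one' := AlgEquiv.ext fun r => Subtype.ext (conjEnd_one ρ _)
  map_mul' g h := AlgEquiv.ext fun r => Subtype.ext (conjEnd_mul ρ g h _)

theorem galHom_ker (hρ : Function.Injective ρ) (A : Subgroup G) [A.Normal] :
    (galHom ρ A).ker = Subgroup.centralizer (A : Set G) ∧ True := by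
  refine ⟨?_, trivial⟩
  ext g
  rw [MonoidHom.mem_ker, Subgroup.mem_centralizer_iff]
  constructor
  · intro h a ha
    have h1 : conjEnd ρ g (toEndHom ρ a) = toEndHom ρ a :=
      congrArg Subtype.val (AlgEquiv.congr_fun h ⟨toEndHom ρ a, toEndHom_mem_spanAlg ρ ha⟩)
    rw [conjEnd_toEndHom] at h1
    have h2 := toEndHom_injective hρ h1
    rw [mul_inv_eq_iff_eq_mul] at h2
    exact h2.symm
  · intro h
    refine AlgEquiv.ext fun r => Subtype.ext ?_
    show conjEnd ρ g r = r
    rw [conjEnd_apply, (commute_spanAlg ρ (fun a ha => (h a ha).symm) r.2).eq, mul_assoc, ← map_mul,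
      mul_inv_cancel, map_one, mul_one]

theorem isCyclic_quotient_centralizer (hρ : Function.Injective ρ)
    (htr : ∀ v w : V, v ≠ 0 → w ≠ 0 → ∃ g : G, ρ g v = w) (A : Subgroup G) [A.Normal]
    (hA : ∀ a ∈ A, ∀ b ∈ A, a * b = b * a) :
    IsCyclic (G ⧸ Subgroup.centralizer (A : Set G)) := by
  haveI := finite_moduleEnd (q := q) (V := V)
  haveI := isCyclic_algEquiv_of_isField (q := q) (spanAlg_isField ρ htr A hA)
  obtain ⟨hker, -⟩ := galHom_ker ρ hρ A
  exact isCyclic_of_injective
    (QuotientGroup.lift (Subgroup.centralizer (A : Set G)) (galHom ρ A) hker.ge)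
    ((MonoidHom.ker_eq_bot_iff _).1 (by rw [QuotientGroup.ker_lift, hker, QuotientGroup.map_mk'_self]))

/-- The numerical data attached to a normal abelian subgroup. -/
theorem spanAlg_data (htr : ∀ v w : V, v ≠ 0 → w ≠ 0 → ∃ g : G, ρ g v = w) (hρ : Function.Injective ρ)
    (A : Subgroup G) [A.Normal] (hA : ∀ a ∈ A, ∀ b ∈ A, a * b = b * a) :
    ∃ k m : ℕ, 1 ≤ k ∧ 1 ≤ m ∧ Nat.card (spanAlg ρ A) = q ^ k ∧ Nat.card V = (q ^ k) ^ m ∧
      Nat.card A ∣ q ^ k - 1 ∧ Nat.card G ∣ k * Nat.card (Subgroup.centralizer (A : Set G)) := by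
  classical
  haveI := finite_moduleEnd (q := q) (V := V)
  have hfld := spanAlg_isField ρ htr A hA
  haveI : Nontrivial (spanAlg ρ A) := hfld.nontrivial
  haveI : Module.Finite (ZMod q) (spanAlg ρ A) := Module.Finite.of_finite
  have hKc : Nat.card (spanAlg ρ A) = q ^ finrank (ZMod q) (spanAlg ρ A) := by
    rw [Module.natCard_eq_pow_finrank (K := ZMod q), Nat.card_zmod]
  obtain ⟨m, hm, hV⟩ := exists_card_eq_pow_of_isField hfld V
  refine ⟨finrank (ZMod q) (spanAlg ρ A), m, Module.finrank_pos, hm, hKc, by rw [hV, hKc], ?_, ?_⟩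
  · let f₀ : A →* spanAlg ρ A :=
      { toFun := fun a => ⟨toEndHom ρ (a : G), toEndHom_mem_spanAlg ρ a.2⟩
        map_one' := Subtype.ext (map_one (toEndHom ρ))
        map_mul' := fun a b => Subtype.ext (map_mul (toEndHom ρ) (a : G) b) }
    have hf : Function.Injective f₀.toHomUnits := fun a b h =>
      Subtype.ext (toEndHom_injective hρ
        (congrArg (fun u : (spanAlg ρ A)ˣ => ((u : spanAlg ρ A) : Module.End (ZMod q) V)) h))
    rw [← hKc, ← card_units_of_isField hfld]
    exact Subgroup.card_dvd_of_injective _ hf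
  · obtain ⟨hker, -⟩ := galHom_ker ρ hρ A
    set σ := galHom ρ A
    have himg : Nat.card σ.range ∣ finrank (ZMod q) (spanAlg ρ A) := by
      rw [← card_algEquiv_of_isField (q := q) hfld]
      exact Subgroup.card_subgroup_dvd_card _
    rw [← hker, ← σ.ker.index_mul_card, Subgroup.index_ker]
    exact Nat.mul_dvd_mul_right himg _

/-- A normal abelian subgroup whose span has as many elements as `V` makes `G` semilinear. -/
theorem isSemilinearRep_of_card (htr : ∀ v w : V, v ≠ 0 → w ≠ 0 → ∃ g : G, ρ g v = w)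
    (A : Subgroup G) [A.Normal] (hA : ∀ a ∈ A, ∀ b ∈ A, a * b = b * a)
    (hcard : Nat.card (spanAlg ρ A) = Nat.card V) : IsSemilinearRep ρ := by
  classical
  haveI := finite_moduleEnd (q := q) (V := V)
  have hfld := spanAlg_isField ρ htr A hA
  haveI : Nontrivial (spanAlg ρ A) := hfld.nontrivial
  set K := spanAlg ρ A with hK
  obtain ⟨v₀, hv₀⟩ := exists_ne (0 : V)
  have hinj : Function.Injective (fun r : K => (r : Module.End (ZMod q) V) v₀) := by
    intro r s h
    by_contra hne
    obtain ⟨u, hu⟩ := hfld.mul_inv_cancel (sub_ne_zero.2 hne)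
    have h2 : ((r - s : K) : Module.End (ZMod q) V) v₀ = 0 := by
      simpa [sub_eq_zero] using h
    have h1 := congrArg (fun t : K => (t : Module.End (ZMod q) V) v₀) ((hfld.mul_comm u (r - s)).trans hu)
    simp only [MulMemClass.coe_mul, Module.End.mul_apply, h2, map_zero, OneMemClass.coe_one,
      Module.End.one_apply] at h1
    exact hv₀ h1.symm
  have hbij := (Nat.bijective_iff_injective_and_card _).2 ⟨hinj, hcard⟩
  let e₀ : K ≃+ V :=
    { Equiv.ofBijective _ hbij with map_add' := fun r s => by simp }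
  -- transfer to a field of universe zero
  haveI : Module.Finite (ZMod q) K := Module.Finite.of_finite
  obtain ⟨k, hk, hKc⟩ : ∃ k : ℕ, 1 ≤ k ∧ Nat.card K = q ^ k :=
    ⟨finrank (ZMod q) K, Module.finrank_pos, by rw [Module.natCard_eq_pow_finrank (K := ZMod q), Nat.card_zmod]⟩
  haveI := Fintype.ofFinite (GaloisField q k)
  obtain ⟨f⟩ := exists_ringEquiv_galoisField hfld (show k ≠ 0 by omega) hKc
  refine ⟨GaloisField q k, inferInstance, inferInstance, e₀.symm.trans f.toAddEquiv, fun g => ?_⟩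
  let σ : K ≃+* K :=
    { toFun := fun r => ⟨conjEnd ρ g r, conjEnd_mem_spanAlg ρ g r.2⟩
      invFun := fun r => ⟨conjEnd ρ g⁻¹ r, conjEnd_mem_spanAlg ρ g⁻¹ r.2⟩
      left_inv := fun r => Subtype.ext (by
        show conjEnd ρ g⁻¹ (conjEnd ρ g r) = r
        rw [← conjEnd_mul, inv_mul_cancel, conjEnd_one])
      right_inv := fun r => Subtype.ext (by
        show conjEnd ρ g (conjEnd ρ g⁻¹ r) = r
        rw [← conjEnd_mul, mul_inv_cancel, conjEnd_one])
      map_mul' := fun r s => Subtype.ext (map_mul (conjEnd ρ g) _ _)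
      map_add' := fun r s => Subtype.ext (map_add (conjEnd ρ g) _ _) }
  refine ⟨f (e₀.symm (ρ g v₀)), (f.symm.trans σ).trans f, fun v => ?_⟩
  obtain ⟨r, rfl⟩ := e₀.surjective v
  simp only [AddEquiv.trans_apply, RingEquiv.toAddEquiv_eq_coe, RingEquiv.coe_toAddEquiv,
    AddEquiv.symm_apply_apply, RingEquiv.trans_apply, RingEquiv.symm_apply_apply]
  rw [← map_mul]
  congr 1
  rw [AddEquiv.symm_apply_eq, hfld.mul_comm]
  show ρ g ((r : Module.End (ZMod q) V) v₀) = conjEnd ρ g r ((e₀.symm (ρ g v₀) : Module.End (ZMod q) V) v₀)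
  rw [show (e₀.symm (ρ g v₀) : Module.End (ZMod q) V) v₀ = ρ g v₀ from e₀.apply_symm_apply _,
    conjEnd_apply_smul]

/-- A self-centralizing normal abelian subgroup makes `G` semilinear. -/
theorem isSemilinearRep_of_self_centralizing (hρ : Function.Injective ρ)
    (htr : ∀ v w : V, v ≠ 0 → w ≠ 0 → ∃ g : G, ρ g v = w) (A : Subgroup G) [A.Normal]
    (hA : ∀ a ∈ A, ∀ b ∈ A, a * b = b * a) (hC : Subgroup.centralizer (A : Set G) ≤ A) :
    IsSemilinearRep ρ := by
  obtain ⟨k, m, hk, hm, hKc, hV, hdA, hdG⟩ := spanAlg_data ρ htr hρ A hA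
  refine isSemilinearRep_of_card ρ htr A hA ?_
  rw [hKc, hV]
  have h1 := card_sub_one_dvd_of_transitive ρ htr
  rw [hV] at h1
  set Q := q ^ k with hQ
  have hq2 := (Fact.out : q.Prime).two_le
  have hkQ : k < Q := (Nat.lt_two_pow_self).trans_le (Nat.pow_le_pow_left hq2 k)
  have h2 : Q ^ m - 1 ∣ k * (Q - 1) :=
    h1.trans (hdG.trans (Nat.mul_dvd_mul_left k ((Subgroup.card_dvd_of_le hC).trans hdA)))
  rcases Nat.lt_or_ge m 2 with h | h
  · rw [show m = 1 by omega, pow_one]
  · exfalso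
    have h3 := Nat.le_of_dvd (Nat.mul_pos (by omega) (by omega)) h2
    have h4 : Q ^ 2 ≤ Q ^ m := Nat.pow_le_pow_right (by omega) h
    nlinarith [Nat.sub_add_cancel (show 1 ≤ Q by omega), Nat.sub_add_cancel (show 1 ≤ Q ^ m from Nat.one_le_pow _ _ (by omega))]

end CfsgLib.Char
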