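import Mathlib
import Cfsg.Agent.Lib.Char.TransLinear.Arith
import Cfsg.Agent.Lib.Char.TransLinear.AutCard
import Cfsg.Agent.Lib.Char.TransLinear.Semilinear

/-!
# The structure of a solvable transitive linear group without self-centralizing abelian normal subgroup
-/

set_option autoImplicit false
set_option linter.style.haveILetI false

namespace CfsgLib.Char

open Module
open scoped commutatorElement

section GroupFacts

variable {G : Type*} [Group G]

theorem commutatorElement_mem_centre_mul_left {x y a : G} (hy : a * y = y * a) :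
    ⁅x * a, y⁆ = ⁅x, y⁆ := by
  simp only [commutatorElement_def, mul_inv_rev, mul_assoc]
  rw [← mul_assoc a y, hy, mul_assoc, mul_inv_cancel_left]

theorem commutatorElement_mem_centre_mul_right {x y a : G} (hx : a * x = x * a) :
    ⁅x, y * a⁆ = ⁅x, y⁆ := by
  simp only [commutatorElement_def, mul_inv_rev, mul_assoc]
  rw [← mul_assoc a x⁻¹, (Commute.inv_right (hx : Commute a x)).eq, mul_assoc, mul_inv_cancel_left]

theorem commutatorElement_mul_left_of_central {x x' y : G} (hc : x * ⁅x', y⁆ = ⁅x', y⁆ * x)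
    (hc2 : ⁅x, y⁆ * ⁅x', y⁆ = ⁅x', y⁆ * ⁅x, y⁆) : ⁅x * x', y⁆ = ⁅x, y⁆ * ⁅x', y⁆ := by
  have h1 : ⁅x * x', y⁆ = x * ⁅x', y⁆ * (y * x⁻¹ * y⁻¹) := by simp [commutatorElement_def, mul_assoc]
  have h2 : ⁅x, y⁆ = x * (y * x⁻¹ * y⁻¹) := by simp [commutatorElement_def, mul_assoc]
  rw [h1, hc, mul_assoc, ← h2, hc2]

theorem commutatorElement_mul_right_of_central {x y y' : G} (hc : y * ⁅x, y'⁆ = ⁅x, y'⁆ * y) :
    ⁅x, y * y'⁆ = ⁅x, y⁆ * ⁅x, y'⁆ := by
  have h1 : ⁅x, y * y'⁆ = ⁅x, y⁆ * (y * ⁅x, y'⁆ * y⁻¹) := by simp [commutatorElement_def, mul_assoc]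
  rw [h1, hc, mul_inv_cancel_right]

variable [Finite G]

theorem exists_maximal_normal_abelian :
    ∃ A : Subgroup G, (A.Normal ∧ ∀ a ∈ A, ∀ b ∈ A, a * b = b * a) ∧
      ∀ A' : Subgroup G, A'.Normal → (∀ a ∈ A', ∀ b ∈ A', a * b = b * a) → A ≤ A' → A' = A := by
  obtain ⟨A, hA, hmax⟩ := Set.Finite.exists_maximal (Set.toFinite
    {A : Subgroup G | A.Normal ∧ ∀ a ∈ A, ∀ b ∈ A, a * b = b * a})
    ⟨⊥, inferInstance, by simp⟩
  exact ⟨A, hA, fun A' h1 h2 hle => le_antisymm (hmax ⟨h1, h2⟩ hle) hle⟩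

/-- A non-trivial normal subgroup of a solvable group contains a non-trivial normal elementary abelian one. -/
theorem exists_normal_elementary_sub [Group.IsSolvable G] {D : Subgroup G} [D.Normal] (hD : D ≠ ⊥) :
    ∃ (p : ℕ) (M : Subgroup G), p.Prime ∧ M.Normal ∧ M ≤ D ∧ M ≠ ⊥ ∧
      (∀ a ∈ M, ∀ b ∈ M, a * b = b * a) ∧ ∀ a ∈ M, a ^ p = 1 := by
  classical
  obtain ⟨n, hn⟩ : ∃ n, derivedSeries D n = ⊥ := (Group.isSolvable_def _).1 inferInstance
  have h0 : derivedSeries D 0 ≠ ⊥ := by
    rw [derivedSeries_zero]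
    exact fun h => hD ((Subgroup.eq_bot_iff_forall _).2 fun x hx =>
      congrArg Subtype.val ((Subgroup.eq_bot_iff_forall _).1 h ⟨x, hx⟩ (Subgroup.mem_top _)))
  obtain ⟨j, hj, hj1⟩ : ∃ j, derivedSeries D j ≠ ⊥ ∧ derivedSeries D (j + 1) = ⊥ := by
    by_contra! h
    have : ∀ j, derivedSeries D j ≠ ⊥ := fun j => Nat.rec h0 (fun j hj => h j hj) j
    exact this n hn
  haveI : (derivedSeries D j).Characteristic := derivedSeries_characteristic D j
  set E := (derivedSeries D j).map D.subtype with hE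
  haveI hEn : E.Normal := inferInstance
  have hcomm : ∀ a ∈ E, ∀ b ∈ E, a * b = b * a := by
    rintro _ ⟨a, ha, rfl⟩ _ ⟨b, hb, rfl⟩
    have h := Subgroup.commutator_mem_commutator ha hb
    rw [← derivedSeries_succ, hj1, Subgroup.mem_bot, commutatorElement_eq_one_iff_mul_comm] at h
    rw [← map_mul, h, map_mul]
  have hEne : E ≠ ⊥ := by
    rw [hE, Ne, Subgroup.map_eq_bot_iff_of_injective _ D.subtype_injective]
    exact hj
  haveI : Nontrivial E := (Subgroup.nontrivial_iff_ne_bot E).2 hEne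
  obtain ⟨p, hp, hpE⟩ := Nat.exists_prime_and_dvd (n := Nat.card E) (Finite.one_lt_card).ne'
  haveI := Fact.mk hp
  let M : Subgroup G :=
    { carrier := {a | a ∈ E ∧ a ^ p = 1}
      one_mem' := ⟨one_mem E, one_pow p⟩
      mul_mem' := fun {a b} ha hb =>
        ⟨mul_mem ha.1 hb.1, by rw [(show Commute a b from hcomm a ha.1 b hb.1).mul_pow, ha.2, hb.2, one_mul]⟩
      inv_mem' := fun {a} ha => ⟨inv_mem ha.1, by rw [inv_pow, ha.2, inv_one]⟩ }
  refine ⟨p, M, hp, ⟨fun a ha g => ⟨hEn.conj_mem a ha.1 g, ?_⟩⟩,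
    fun a ha => Subgroup.map_subtype_le _ ha.1, ?_, fun a ha b hb => hcomm a ha.1 b hb.1, fun a ha => ha.2⟩
  · rw [conj_pow, ha.2, mul_one, mul_inv_cancel]
  · obtain ⟨x, hx⟩ := exists_prime_orderOf_dvd_card' (G := E) p hpE
    intro h
    have hmem : (x : G) ∈ M := ⟨x.2, by
      rw [← hx, ← SubgroupClass.coe_pow, pow_orderOf_eq_one, OneMemClass.coe_one]⟩
    rw [h, Subgroup.mem_bot] at hmem
    rw [show x = 1 from Subtype.ext hmem, orderOf_one] at hx
    exact hp.one_lt.ne hx

theorem card_eq_card_map_mul {A N : Subgroup G} [A.Normal] (hAN : A ≤ N) :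
    Nat.card N = Nat.card (N.map (QuotientGroup.mk' A)) * Nat.card A := by
  set f := (QuotientGroup.mk' A).comp N.subtype with hf
  have h1 : f.ker = A.subgroupOf N := by
    ext x
    simp [hf, Subgroup.mem_subgroupOf]
  have h2 : f.range = N.map (QuotientGroup.mk' A) := by
    rw [hf, MonoidHom.range_comp, Subgroup.range_subtype]
  rw [← h2, ← Subgroup.index_ker, ← Nat.card_congr (Subgroup.subgroupOfEquivOfLe hAN).toEquiv, ← h1,
    Subgroup.index_mul_card]

end GroupFacts

section IsFieldFacts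

variable {R : Type*} [Ring R] (hR : IsField R)

include hR

theorem card_monoidHom_le_of_isField [Finite R] (B : Type*) [Monoid B] [Finite B] :
    Finite (B →* R) ∧ Nat.card (B →* R) ≤ Nat.card B := by
  classical
  haveI : Finite (B →* R) := Finite.of_injective (fun f => (f : B → R)) DFunLike.coe_injective
  refine ⟨inferInstance, ?_⟩
  letI F := hR.toField
  letI : Fintype (B →* R) := Fintype.ofFinite _
  letI : Fintype B := Fintype.ofFinite B
  have h := (linearIndependent_monoidHom B R).fintype_card_le_finrank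
  rw [Module.finrank_fintype_fun_eq_card] at h
  simpa [Nat.card_eq_fintype_card] using h

theorem isCyclic_of_injective_isField {B : Type*} [Group B] [Finite B] (f : B →* R)
    (hf : Function.Injective f) : IsCyclic B := by
  letI F := hR.toField
  exact isCyclic_of_subgroup_isDomain (R := R) f hf

/-- A finite module over a finite field has a spanning family indexed by its dimension. -/
theorem exists_dimension_of_isField (W : Type*) [AddCommGroup W] [Module R W] [Finite R] [Finite W] {m : ℕ}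
    (hm : Nat.card W = Nat.card R ^ m) :
    ∃ w : Fin m → W, ∀ T T' : W →+ W, (∀ (r : R) v, T (r • v) = r • T v) → (∀ (r : R) v, T' (r • v) = r • T' v) →
      (∀ i, T (w i) = T' (w i)) → T = T' := by
  letI F := hR.toField
  letI M : @Module R W F.toSemiring _ := (inferInstance : Module R W)
  haveI : Module.Finite R W := Module.Finite.of_finite
  have hfr : finrank R W = m := by
    haveI : Nontrivial R := hR.nontrivial
    apply Nat.pow_right_injective (Finite.one_lt_card (α := R))
    show Nat.card R ^ finrank R W = Nat.card R ^ m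
    rw [← hm]
    exact (Module.natCard_eq_pow_finrank).symm
  let b : Basis (Fin m) R W := Module.finBasisOfFinrankEq R W hfr
  refine ⟨fun i => b i, fun T T' hT hT' h => AddMonoidHom.ext fun v => ?_⟩
  rw [← b.sum_repr v, map_sum, map_sum]
  exact Finset.sum_congr rfl fun i _ =>
    (hT (b.repr v i) (b i)).trans ((congrArg (fun x : W => b.repr v i • x) (h i)).trans (hT' (b.repr v i) (b i)).symm)

end IsFieldFacts

variable {q : ℕ} [Fact q.Prime] {V : Type*} [AddCommGroup V] [Module (ZMod q) V] [Finite V] [Nontrivial V]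
  {G : Type*} [Group G] [Finite G] (ρ : G →* (V ≃ₗ[ZMod q] V))

/-- Coset representatives with separating commutator characters are independent over the span of `A`. -/
theorem conj_separated_injective (htr : ∀ v w : V, v ≠ 0 → w ≠ 0 → ∃ g : G, ρ g v = w) (hρ : Function.Injective ρ)
    (A : Subgroup G) [A.Normal] (hA : ∀ a ∈ A, ∀ b ∈ A, a * b = b * a)
    {ι : Type*} [Fintype ι] (r : ι → G) (hrC : ∀ i, ∀ a ∈ A, r i * a = a * r i)
    (hrA : ∀ i j, ⁅r j, r i⁆ ∈ A) (hsep : ∀ i i', i ≠ i' → ∃ j, ⁅r j, r i⁆ ≠ ⁅r j, r i'⁆) :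
    Function.Injective (fun c : ι → spanAlg ρ A =>
      ∑ i, (c i : Module.End (ZMod q) V) * toEndHom ρ (r i)) := by
  classical
  haveI := finite_moduleEnd (q := q) (V := V)
  have hfld := spanAlg_isField ρ htr A hA
  have key : ∀ (s : Finset ι) (c : ι → spanAlg ρ A),
      ∑ i ∈ s, (c i : Module.End (ZMod q) V) * toEndHom ρ (r i) = 0 → ∀ i ∈ s, c i = 0 := by
    intro s
    induction s using Finset.induction_on with
    | empty => simp
    | insert a s ha ih =>
      intro c hc
      have hrest : ∀ i ∈ s, c i = 0 := by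
        intro i hi
        obtain ⟨j, hj⟩ := hsep i a (fun h => ha (h ▸ hi))
        let lam : ι → spanAlg ρ A := fun l => ⟨toEndHom ρ ⁅r j, r l⁆, toEndHom_mem_spanAlg ρ (hrA l j)⟩
        have hconj : ∀ l, conjEnd ρ (r j) ((c l : Module.End (ZMod q) V) * toEndHom ρ (r l)) =
            ((lam l * c l : spanAlg ρ A) : Module.End (ZMod q) V) * toEndHom ρ (r l) := by
          intro l
          have hfix : conjEnd ρ (r j) (c l : Module.End (ZMod q) V) = c l := by
            rw [conjEnd_apply, (commute_spanAlg ρ (hrC j) (c l).2).eq, mul_assoc, ← map_mul, mul_inv_cancel,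
              map_one, mul_one]
          rw [map_mul, hfix, conjEnd_toEndHom,
            show r j * r l * (r j)⁻¹ = ⁅r j, r l⁆ * r l by simp [commutatorElement_def],
            map_mul, MulMemClass.coe_mul, (commute_in_spanAlg ρ hA (lam l).2 (c l).2).eq, mul_assoc]
        have h1 := congrArg (conjEnd ρ (r j)) hc
        rw [map_sum, map_zero, Finset.sum_congr rfl fun l _ => hconj l] at h1
        have h2 : ((lam a : spanAlg ρ A) : Module.End (ZMod q) V) *
            ∑ l ∈ insert a s, (c l : Module.End (ZMod q) V) * toEndHom ρ (r l) = 0 := by rw [hc, mul_zero]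
        rw [Finset.mul_sum] at h2
        have h3 : ∑ l ∈ s, (((lam l - lam a) * c l : spanAlg ρ A) : Module.End (ZMod q) V) * toEndHom ρ (r l) = 0 := by
          rw [Finset.sum_insert ha] at h1 h2
          simp only [MulMemClass.coe_mul, AddSubgroupClass.coe_sub, sub_mul, Finset.sum_sub_distrib]
          simp only [MulMemClass.coe_mul, ← mul_assoc] at h1 h2 ⊢
          rw [eq_neg_of_add_eq_zero_right h1, eq_neg_of_add_eq_zero_right h2, sub_self]
        have h4 := ih (fun l => (lam l - lam a) * c l) h3 i hi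
        by_contra hci
        obtain ⟨u, hu⟩ := hfld.mul_inv_cancel hci
        have h5 : lam i - lam a = 0 := by
          calc lam i - lam a = (lam i - lam a) * (c i * u) := by rw [hu, mul_one]
            _ = (lam i - lam a) * c i * u := by rw [mul_assoc]
            _ = 0 := by rw [h4, zero_mul]
        exact hj (toEndHom_injective hρ (congrArg Subtype.val (sub_eq_zero.1 h5)))
      intro i hi
      rcases Finset.mem_insert.1 hi with rfl | hi
      · rw [Finset.sum_insert ha, Finset.sum_eq_zero (fun l hl => by rw [hrest l hl]; simp), add_zero] at hc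
        refine Subtype.ext ?_
        have h6 := congrArg (fun T => T * toEndHom ρ (r i)⁻¹) hc
        simpa [mul_assoc, ← map_mul] using h6
      · exact hrest i hi
  intro c c' h
  funext i
  have h0 := key Finset.univ (c - c') (by
    simp only [Pi.sub_apply, AddSubgroupClass.coe_sub, sub_mul, Finset.sum_sub_distrib]
    exact sub_eq_zero.2 h) i (Finset.mem_univ i)
  exact sub_eq_zero.1 h0

/-- The data in the non-semilinear case. -/
theorem transLinear_structure [Group.IsSolvable G] (hρ : Function.Injective ρ)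
    (htr : ∀ v w : V, v ≠ 0 → w ≠ 0 → ∃ g : G, ρ g v = w) :
    (∃ A : Subgroup G, A.Normal ∧ (∀ a ∈ A, ∀ b ∈ A, a * b = b * a) ∧ Subgroup.centralizer (A : Set G) ≤ A) ∨
    ∃ (A N : Subgroup G) (k m e : ℕ), A.Normal ∧ N.Normal ∧ A ≤ N ∧ N ≤ Subgroup.centralizer (A : Set G) ∧
      (∀ x ∈ N, ∀ y ∈ N, ⁅x, y⁆ ∈ A) ∧ Subgroup.centralizer (N : Set G) ≤ A ∧
      2 ≤ e ∧ e ≤ m ∧ 1 ≤ k ∧ Nat.card V = (q ^ k) ^ m ∧ Nat.card N = Nat.card A * e ^ 2 ∧
      Nat.card A ∣ q ^ k - 1 ∧ (∀ p ∈ e.primeFactors, p ∣ Nat.card A) ∧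
      Nat.card (Subgroup.centralizer (A : Set G)) ∣
        Nat.card N * ∏ p ∈ e.primeFactors, glCard (2 * e.factorization p) p ∧
      Nat.card G ∣ k * Nat.card (Subgroup.centralizer (A : Set G)) := by
  classical
  obtain ⟨A, ⟨hAn, hA⟩, hAmax⟩ := exists_maximal_normal_abelian (G := G)
  haveI := hAn
  by_cases hCA : Subgroup.centralizer (A : Set G) ≤ A
  · exact Or.inl ⟨A, hAn, hA, hCA⟩
  right
  obtain ⟨k, m, hk, hm, hKc, hV, hdA, hdG⟩ := spanAlg_data ρ htr hρ A hA
  set C := Subgroup.centralizer (A : Set G) with hC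
  have hAC : A ≤ C := fun a ha => Subgroup.mem_centralizer_iff.2 fun b hb => hA b hb a ha
  set π := QuotientGroup.mk' A with hπ
  have hπA : ∀ x : G, π x = 1 ↔ x ∈ A := fun x => QuotientGroup.eq_one_iff x
  -- a largest class two subgroup over `A`
  obtain ⟨N, ⟨hNn, hAN, hNC, hNA, hNsq⟩, hNmax⟩ := Set.Finite.exists_maximal (Set.toFinite
    {N : Subgroup G | N.Normal ∧ A ≤ N ∧ N ≤ C ∧ (∀ x ∈ N, ∀ y ∈ N, ⁅x, y⁆ ∈ A) ∧
      ∀ p : ℕ, p.Prime → ∀ x ∈ N, x ^ (p ^ 2) ∈ A → x ^ p ∈ A})
    ⟨A, hAn, le_rfl, hAC, fun x hx y hy => by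
      rw [commutatorElement_eq_one_iff_mul_comm.2 (hA x hx y hy)]; exact one_mem A,
      fun p _ x hx _ => pow_mem hx p⟩
  haveI := hNn
  have hcomm : ∀ x ∈ N, ∀ a ∈ A, x * a = a * x := fun x hx a ha =>
    (Subgroup.mem_centralizer_iff.1 (hNC hx) a ha).symm
  set D := Subgroup.centralizer (N : Set G) with hD
  haveI hDn : D.Normal := inferInstance
  have hAD : A ≤ D := fun a ha => Subgroup.mem_centralizer_iff.2 fun x hx => hcomm x hx a ha
  have hNDA : N ⊓ D = A := hAmax (N ⊓ D) inferInstance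
    (fun a ha b hb => Subgroup.mem_centralizer_iff.1 hb.2 a ha.1) (le_inf hAN hAD)
  have hDA : D ≤ A := by
    by_contra hnot
    haveI : (D.map π).Normal := hDn.map π (QuotientGroup.mk'_surjective A)
    have hDbar : D.map π ≠ ⊥ := fun h => hnot fun x hx => (hπA x).1 (by
      have := Subgroup.mem_map_of_mem π hx
      rwa [h, Subgroup.mem_bot] at this)
    haveI : Group.IsSolvable (G ⧸ A) := inferInstance
    obtain ⟨p, Mb, hp, hMn, hMD, hMne, hMab, hMexp⟩ := exists_normal_elementary_sub hDbar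
    set M := Mb.comap π with hM
    haveI : M.Normal := hMn.comap π
    have hAM : A ≤ M := fun a ha => by rw [hM, Subgroup.mem_comap, (hπA a).2 ha]; exact one_mem Mb
    have hMD' : M ≤ D := by
      intro x hx
      obtain ⟨d, hd, he⟩ := hMD hx
      have h1 : d⁻¹ * x ∈ A := (hπA _).1 (by rw [map_mul, map_inv, he, inv_mul_cancel])
      simpa using mul_mem hd (hAD h1)
    have hNM : N ⊓ M = A := le_antisymm ((inf_le_inf_left N hMD').trans hNDA.le) (le_inf hAN hAM)
    have hle := hNmax (show N ⊔ M ∈ _ from ⟨inferInstance, le_sup_of_le_left hAN,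
      sup_le hNC (hMD'.trans (Subgroup.centralizer_le hAN)), ?_, ?_⟩) le_sup_left
    · have hMA : M ≤ A := fun x hx => hNM ▸ (⟨(le_sup_right.trans hle) hx, hx⟩ : x ∈ N ⊓ M)
      refine hMne ((Subgroup.eq_bot_iff_forall _).2 fun y hy => ?_)
      obtain ⟨x, rfl⟩ := QuotientGroup.mk'_surjective A y
      exact (hπA x).2 (hMA hy)
    · intro x hx y hy
      obtain ⟨n, hn, u, hu, rfl⟩ := Subgroup.mem_sup_of_normal_left.1 hx
      obtain ⟨n', hn', u', hu', rfl⟩ := Subgroup.mem_sup_of_normal_left.1 hy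
      rw [← hπA, map_commutatorElement, map_mul, map_mul, commutatorElement_eq_one_iff_mul_comm]
      have c1 : Commute (π n) (π n') := by
        rw [commute_iff_eq, ← commutatorElement_eq_one_iff_mul_comm, ← map_commutatorElement]
        exact (hπA _).2 (hNA n hn n' hn')
      have c2 : Commute (π n) (π u') :=
        Commute.map (Subgroup.mem_centralizer_iff.1 (hMD' hu') n hn) π
      have c3 : Commute (π u) (π n') :=
        (Commute.map (Subgroup.mem_centralizer_iff.1 (hMD' hu) n' hn') π).symm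
      have c4 : Commute (π u) (π u') := hMab _ hu _ hu'
      exact ((c1.mul_right c2).mul_left (c3.mul_right c4)).eq
    · intro r hr x hx hxr
      obtain ⟨n, hn, u, hu, rfl⟩ := Subgroup.mem_sup_of_normal_left.1 hx
      have c : Commute n u := Subgroup.mem_centralizer_iff.1 (hMD' hu) n hn
      rw [c.mul_pow] at hxr ⊢
      have h1 : n ^ r ^ 2 ∈ A := hNM ▸ (⟨pow_mem hn _, by
        have := mul_mem (hAM hxr) (inv_mem (pow_mem hu (r ^ 2)))
        rwa [mul_inv_cancel_right] at this⟩ : n ^ r ^ 2 ∈ N ⊓ M)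
      have h2 : u ^ r ^ 2 ∈ A := by
        have := mul_mem (inv_mem h1) hxr
        rwa [inv_mul_cancel_left] at this
      refine mul_mem (hNsq r hr n hn h1) ?_
      rw [← hπA, map_pow]
      have h3 : orderOf (π u) ∣ p := orderOf_dvd_of_pow_eq_one (hMexp _ hu)
      have h4 : orderOf (π u) ∣ r ^ 2 := orderOf_dvd_of_pow_eq_one (by rw [← map_pow]; exact (hπA _).2 h2)
      rcases (Nat.dvd_prime hp).1 h3 with h5 | h5
      · rw [orderOf_eq_one_iff.1 h5, one_pow]
      · rw [← (Nat.prime_dvd_prime_iff_eq hp hr).1 (hp.dvd_of_dvd_pow (h5 ▸ h4))]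
        exact hMexp _ hu
  have hNne : ¬ N ≤ A := fun h => hCA (by
    have hNA' : N = A := le_antisymm h hAN
    rw [hD, hNA'] at hDA; exact hDA)
  -- the quotient
  haveI hNbn : (N.map π).Normal := hNn.map π (QuotientGroup.mk'_surjective A)
  set Nb := N.map π with hNb
  letI icg : CommGroup Nb :=
    { (inferInstance : Group Nb) with
      mul_comm := fun a b => by
        obtain ⟨_, x, hx, rfl⟩ := a
        obtain ⟨_, y, hy, rfl⟩ := b
        refine Subtype.ext ?_
        show π x * π y = π y * π x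
        rw [← commutatorElement_eq_one_iff_mul_comm, ← map_commutatorElement]
        exact (hπA _).2 (hNA x hx y hy) }
  set t := Nat.card Nb with ht
  have hcardN : Nat.card N = t * Nat.card A := card_eq_card_map_mul hAN
  -- representatives
  have hrep : ∀ b : Nb, ∃ x ∈ N, π x = (b : G ⧸ A) := fun b => b.2
  choose rep hrepN hrepπ using hrep
  have hrep_mul : ∀ (x : G) (hx : x ∈ N), ∃ a ∈ A, x = rep ⟨π x, Subgroup.mem_map_of_mem π hx⟩ * a := by
    intro x hx
    refine ⟨(rep ⟨π x, Subgroup.mem_map_of_mem π hx⟩)⁻¹ * x, ?_, by rw [mul_inv_cancel_left]⟩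
    rw [← hπA, map_mul, map_inv, hrepπ, inv_mul_cancel]
  have hAc : ∀ x ∈ N, ∀ y ∈ N, ∀ a ∈ A, ⁅x * a, y⁆ = ⁅x, y⁆ ∧ ⁅x, y * a⁆ = ⁅x, y⁆ := fun x hx y hy a ha =>
    ⟨commutatorElement_mem_centre_mul_left (hcomm y hy a ha).symm,
      commutatorElement_mem_centre_mul_right (hcomm x hx a ha).symm⟩
  letI iA : CommGroup A := { (inferInstance : Group A) with mul_comm := fun a b => Subtype.ext (hA a a.2 b b.2) }
  let β₀ : Nb → Nb → A := fun x y => ⟨⁅rep x, rep y⁆, hNA _ (hrepN x) _ (hrepN y)⟩
  have hrm : ∀ x y : Nb, ∃ a ∈ A, rep x * rep y = rep (x * y) * a := by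
    intro x y
    obtain ⟨a, ha, he⟩ := hrep_mul _ (mul_mem (hrepN x) (hrepN y))
    have hxy : (⟨π (rep x * rep y), Subgroup.mem_map_of_mem π (mul_mem (hrepN x) (hrepN y))⟩ : Nb) = x * y :=
      Subtype.ext (by show π (rep x * rep y) = _; rw [map_mul, hrepπ, hrepπ]; rfl)
    exact ⟨a, ha, hxy ▸ he⟩
  have hβl : ∀ x x' y, β₀ (x * x') y = β₀ x y * β₀ x' y := by
    intro x x' y
    refine Subtype.ext ?_
    show ⁅rep (x * x'), rep y⁆ = ⁅rep x, rep y⁆ * ⁅rep x', rep y⁆
    obtain ⟨a, ha, he⟩ := hrm x x'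
    rw [← (hAc _ (hrepN (x * x')) _ (hrepN y) a ha).1, ← he]
    exact commutatorElement_mul_left_of_central (hcomm _ (hrepN x) _ (hNA _ (hrepN x') _ (hrepN y)))
      (hA _ (hNA _ (hrepN x) _ (hrepN y)) _ (hNA _ (hrepN x') _ (hrepN y)))
  have hβr : ∀ x y y', β₀ x (y * y') = β₀ x y * β₀ x y' := by
    intro x y y'
    refine Subtype.ext ?_
    show ⁅rep x, rep (y * y')⁆ = ⁅rep x, rep y⁆ * ⁅rep x, rep y'⁆
    obtain ⟨a, ha, he⟩ := hrm y y'
    rw [← (hAc _ (hrepN x) _ (hrepN (y * y')) a ha).2, ← he]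
    exact commutatorElement_mul_right_of_central (hcomm _ (hrepN y) _ (hNA _ (hrepN x) _ (hrepN y')))
  let β : Nb →* Nb →* A := MonoidHom.mk' (fun x => MonoidHom.mk' (β₀ x) (hβr x))
    (fun x x' => MonoidHom.ext fun y => hβl x x' y)
  have hβnd : ∀ x, (∀ y, β x y = 1) → x = 1 := by
    intro x hx
    have hmem : rep x ∈ A := hDA (Subgroup.mem_centralizer_iff.2 fun y hy => by
      obtain ⟨a, ha, he⟩ := hrep_mul y hy
      have h1 : ⁅rep x, rep ⟨π y, Subgroup.mem_map_of_mem π hy⟩⁆ = 1 := congrArg Subtype.val (hx _)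
      rw [← (hAc _ (hrepN x) _ (hrepN _) a ha).2, ← he, commutatorElement_eq_one_iff_mul_comm] at h1
      exact h1.symm)
    refine Subtype.ext ?_
    rw [← hrepπ x]
    exact (hπA _).2 hmem
  have hfld := spanAlg_isField ρ htr A hA
  haveI := finite_moduleEnd (q := q) (V := V)
  let f₀ : A →* spanAlg ρ A :=
    { toFun := fun a => ⟨toEndHom ρ (a : G), toEndHom_mem_spanAlg ρ a.2⟩
      map_one' := Subtype.ext (map_one (toEndHom ρ))
      map_mul' := fun a b => Subtype.ext (map_mul (toEndHom ρ) (a : G) b) }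
  have hf₀ : Function.Injective f₀ := fun a b h =>
    Subtype.ext (toEndHom_injective hρ (congrArg Subtype.val h))
  -- square order
  have hNbsq : ∀ p : ℕ, p.Prime → ∀ x : Nb, x ^ (p ^ 2) = 1 → x ^ p = 1 := by
    intro p hp x hx
    have h1 : rep x ^ p ^ 2 ∈ A := by
      rw [← hπA, map_pow, hrepπ]
      simpa using congrArg Subtype.val hx
    have h2 := (hπA _).2 (hNsq p hp _ (hrepN x) h1)
    rw [map_pow, hrepπ] at h2
    exact Subtype.ext (by simpa using h2)
  have heven : ∀ p : ℕ, p.Prime → p ∣ t → (∃ s, t.factorization p = 2 * s) ∧ p ∣ Nat.card A := by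
    intro p hp hpt
    haveI := Fact.mk hp
    haveI : IsCyclic A := isCyclic_of_injective_isField hfld f₀ hf₀
    obtain ⟨P⟩ : Nonempty (Sylow p Nb) := inferInstance
    have hPk := sylow_eq_killedBy (hNbsq p hp) P
    have hcP : Nat.card (killedBy Nb p) = p ^ t.factorization p := by rw [hPk]; exact P.card_eq_multiplicity
    let β' : killedBy Nb p →* killedBy Nb p →* A :=
      MonoidHom.mk' (fun x => (β x).comp (killedBy Nb p).subtype) (fun x y => by ext z; simp)
    have hnd' : ∀ x, (∀ y, β' x y = 1) → x = 1 := by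
      intro x hx
      refine Subtype.ext (hβnd _ fun y => ?_)
      set u := t / p ^ t.factorization p with hu
      have hy : y ^ u ∈ killedBy Nb p := by
        refine mem_killedBy.2 (pow_prime_eq_one_of_pow (hNbsq p hp) (t.factorization p) _ ?_)
        rw [← pow_mul, hu, Nat.div_mul_cancel (Nat.ordProj_dvd t p), ht, pow_card_eq_one']
      have h1 : β (x : Nb) y ^ u = 1 := by rw [← map_pow]; exact hx ⟨_, hy⟩
      have h2 : β (x : Nb) y ^ p = 1 := by
        rw [← MonoidHom.pow_apply, ← map_pow, mem_killedBy.1 x.2, map_one, MonoidHom.one_apply]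
      have hcop : p.Coprime u :=
        (Nat.Prime.coprime_iff_not_dvd hp).2 (Nat.not_dvd_ordCompl hp (Nat.card_pos (α := Nb)).ne')
      have h3 := pow_gcd_eq_one.2 ⟨h2, h1⟩
      rwa [hcop, pow_one] at h3
    refine ⟨?_, ?_⟩
    · obtain ⟨s, hs⟩ := exists_card_eq_pow_two_mul_of_pairing (p := p) (Z := A) (by
          haveI := Fintype.ofFinite A
          rw [Nat.card_eq_fintype_card, Fintype.card_subtype]
          exact le_trans (le_of_eq (congrArg Finset.card (Finset.filter_congr fun a _ => mem_killedBy)))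
            (IsCyclic.card_pow_eq_one_le hp.pos))
        _ (killedBy Nb p) rfl (fun x => Subtype.ext (mem_killedBy.1 x.2)) β'
        (fun x => Subtype.ext (commutatorElement_self _)) hnd'
      exact ⟨s, Nat.pow_right_injective hp.two_le (hcP.symm.trans hs)⟩
    · obtain ⟨x, hx⟩ := exists_prime_orderOf_dvd_card' (G := Nb) p hpt
      obtain ⟨y, hy⟩ : ∃ y, β x y ≠ 1 := by
        by_contra! h
        rw [hβnd x h, orderOf_one] at hx
        exact hp.one_lt.ne hx
      have h2 : β x y ^ p = 1 := by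
        rw [← MonoidHom.pow_apply, ← map_pow, ← hx, pow_orderOf_eq_one, map_one, MonoidHom.one_apply]
      rw [← orderOf_eq_prime h2 hy]
      exact orderOf_dvd_natCard _
  have ht0 : t ≠ 0 := Nat.card_pos.ne'
  set e := ∏ p ∈ t.primeFactors, p ^ (t.factorization p / 2) with he
  have hte : e ^ 2 = t := by
    conv_rhs => rw [← Nat.prod_factorization_pow_eq_self ht0]
    rw [he, ← Finset.prod_pow]
    unfold Finsupp.prod
    rw [Nat.support_factorization]
    refine Finset.prod_congr rfl fun p hp => ?_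
    obtain ⟨⟨s, hs⟩, -⟩ := heven p (Nat.prime_of_mem_primeFactors hp) (Nat.dvd_of_mem_primeFactors hp)
    rw [← pow_mul, hs, Nat.mul_div_cancel_left s (by norm_num), mul_comm]
  have he0 : e ≠ 0 := fun h => ht0 (by rw [← hte, h]; norm_num)
  have hef : ∀ p, 2 * e.factorization p = t.factorization p := fun p => by
    rw [← hte, Nat.factorization_pow]; simp
  have hpf : e.primeFactors = t.primeFactors := by rw [← hte, Nat.primeFactors_pow _ (by norm_num)]
  have ht1 : 1 < t := by
    obtain ⟨x, hx, hxA⟩ := SetLike.not_le_iff_exists.1 hNne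
    haveI : Nontrivial Nb :=
      ⟨⟨⟨π x, Subgroup.mem_map_of_mem π hx⟩, 1, fun h => hxA ((hπA x).1 (congrArg Subtype.val h))⟩⟩
    exact Finite.one_lt_card
  have he2 : 2 ≤ e := by
    by_contra h
    have : e = 1 := by omega
    rw [this] at hte; omega
  -- the dimension bound
  have hem : e ≤ m := by
    haveI : Fintype Nb := Fintype.ofFinite _
    obtain ⟨w, hw⟩ := exists_dimension_of_isField hfld V (m := m) (by rw [hV, hKc])
    have hrepC : ∀ b : Nb, ∀ a ∈ A, rep b * a = a * rep b := fun b a ha => hcomm _ (hrepN b) a ha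
    have hinj := conj_separated_injective ρ htr hρ A hA rep hrepC (fun i j => hNA _ (hrepN j) _ (hrepN i))
      (fun i i' hne => by
        by_contra! hall
        refine hne ?_
        have h1 : ∀ j, β j i = β j i' := fun j => Subtype.ext (hall j)
        refine (mul_inv_eq_one.1 (hβnd (i * i'⁻¹) fun y => ?_))
        have hsk : ∀ a b, β a b * β b a = 1 := fun a b => by
          have h2 : ∀ z, β z z = 1 := fun z => Subtype.ext (commutatorElement_self _)
          have := h2 (a * b)
          simp only [map_mul, MonoidHom.mul_apply, h2, one_mul, mul_one] at this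
          first
            | exact this
            | rwa [mul_comm] at this
        have hskew := hsk (i * i'⁻¹) y
        rwa [map_mul (β y), map_inv (β y), h1 y, mul_inv_cancel, mul_one] at hskew)
    have hle : Nat.card (Nb → spanAlg ρ A) ≤ Nat.card (Fin m → V) := by
      refine Nat.card_le_card_of_injective (fun c i =>
        (∑ b, (c b : Module.End (ZMod q) V) * toEndHom ρ (rep b)) (w i)) ?_
      intro c c' h
      refine hinj ?_
      have hcm : ∀ (c : Nb → spanAlg ρ A) (r : spanAlg ρ A) (v : V),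
          (∑ b, (c b : Module.End (ZMod q) V) * toEndHom ρ (rep b)) ((r : Module.End (ZMod q) V) v) =
            (r : Module.End (ZMod q) V) ((∑ b, (c b : Module.End (ZMod q) V) * toEndHom ρ (rep b)) v) := by
        intro c r v
        have hc : Commute (∑ b, (c b : Module.End (ZMod q) V) * toEndHom ρ (rep b)) (r : Module.End (ZMod q) V) :=
          Commute.sum_left _ _ _ fun b _ =>
            (commute_in_spanAlg ρ hA (c b).2 r.2).mul_left (commute_spanAlg ρ (hrepC b) r.2)
        exact LinearMap.congr_fun hc.eq v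
      have := hw (∑ b, (c b : Module.End (ZMod q) V) * toEndHom ρ (rep b)).toAddMonoidHom
        (∑ b, (c' b : Module.End (ZMod q) V) * toEndHom ρ (rep b)).toAddMonoidHom
        (hcm c) (hcm c') (fun i => congrFun h i)
      exact LinearMap.toAddMonoidHom_injective this
    rw [Nat.card_fun, Nat.card_fun, Nat.card_fin, hKc, hV, ← ht, ← pow_mul _ m m] at hle
    have h1 : 1 < q ^ k := Nat.one_lt_pow (by omega) (Fact.out : q.Prime).one_lt
    have h2 : t ≤ m * m := (Nat.pow_le_pow_iff_right h1).1 hle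
    rw [← hte, pow_two] at h2
    exact Nat.mul_self_le_mul_self_iff.1 h2
  -- the automorphism bound
  haveI hCn : C.Normal := inferInstance
  let ψ : C →* MulAut Nb := ((MulAut.conjNormal (H := Nb)).comp π).comp C.subtype
  have hψker : ∀ c : C, c ∈ ψ.ker → ∀ x ∈ N, ⁅(c : G), x⁆ ∈ A := by
    intro c hc x hx
    have h1 : π c * π x * (π c)⁻¹ = π x := by
      have := congrArg Subtype.val (DFunLike.congr_fun (MonoidHom.mem_ker.1 hc) ⟨π x, Subgroup.mem_map_of_mem π hx⟩)
      simpa [ψ, MulAut.conjNormal_apply] using this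
    rw [← hπA, map_commutatorElement, commutatorElement_def, h1, mul_inv_cancel]
  have hKle : Nat.card ψ.ker ≤ Nat.card A * t := by
    let Φ₀ : ψ.ker → Nb → A := fun c b => ⟨⁅((c : C) : G), rep b⁆, hψker _ c.2 _ (hrepN b)⟩
    have hΦr : ∀ c x y, Φ₀ c (x * y) = Φ₀ c x * Φ₀ c y := by
      intro c x y
      refine Subtype.ext ?_
      show ⁅((c : C) : G), rep (x * y)⁆ = ⁅((c : C) : G), rep x⁆ * ⁅((c : C) : G), rep y⁆
      obtain ⟨a, ha, he⟩ := hrm x y
      have hca : a * ((c : C) : G) = ((c : C) : G) * a := Subgroup.mem_centralizer_iff.1 (c : C).2 a ha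
      rw [← commutatorElement_mem_centre_mul_right (y := rep (x * y)) hca, ← he]
      exact commutatorElement_mul_right_of_central (hcomm _ (hrepN x) _ (hψker _ c.2 _ (hrepN y)))
    let Φ : ψ.ker →* (Nb →* A) := MonoidHom.mk' (fun c => MonoidHom.mk' (Φ₀ c) (hΦr c)) (fun c d => by
      refine MonoidHom.ext fun b => Subtype.ext ?_
      show ⁅((c : C) : G) * ((d : C) : G), rep b⁆ = ⁅((c : C) : G), rep b⁆ * ⁅((d : C) : G), rep b⁆
      exact commutatorElement_mul_left_of_central
        (Subgroup.mem_centralizer_iff.1 (c : C).2 _ (hψker _ d.2 _ (hrepN b))).symm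
        (hA _ (hψker _ c.2 _ (hrepN b)) _ (hψker _ d.2 _ (hrepN b))))
    have hker : Nat.card Φ.ker ≤ Nat.card A := by
      refine Nat.card_le_card_of_injective (fun c => (⟨((c : ψ.ker) : C), hDA (Subgroup.mem_centralizer_iff.2
        fun x hx => ?_)⟩ : A)) (fun c d h => Subtype.ext (Subtype.ext (Subtype.ext (congrArg (fun z : A => (z : G)) h))))
      obtain ⟨a, ha, he⟩ := hrep_mul x hx
      have h1 : ⁅(((c : ψ.ker) : C) : G), rep ⟨π x, Subgroup.mem_map_of_mem π hx⟩⁆ = 1 :=
        congrArg Subtype.val (DFunLike.congr_fun (MonoidHom.mem_ker.1 c.2) _)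
      have hca : a * (((c : ψ.ker) : C) : G) = (((c : ψ.ker) : C) : G) * a :=
        Subgroup.mem_centralizer_iff.1 ((c : ψ.ker) : C).2 a ha
      rw [← commutatorElement_mem_centre_mul_right (a := a) hca, ← he, commutatorElement_eq_one_iff_mul_comm] at h1
      exact h1.symm
    have himg : Nat.card Φ.range ≤ t := by
      obtain ⟨hfin, hle⟩ := card_monoidHom_le_of_isField hfld Nb
      refine le_trans ?_ hle
      exact Nat.card_le_card_of_injective (fun f : Φ.range => f₀.comp (f : Nb →* A))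
        (fun f g h => Subtype.ext (MonoidHom.ext fun b => hf₀ (DFunLike.congr_fun h b)))
    rw [← Φ.ker.index_mul_card, Subgroup.index_ker, mul_comm (Nat.card A)]
    exact Nat.mul_le_mul himg hker
  have hNker : N.subgroupOf C = ψ.ker := by
    refine Subgroup.eq_of_le_of_card_ge ?_ ?_
    · intro c hc
      rw [MonoidHom.mem_ker]
      refine MulEquiv.ext fun b => Subtype.ext ?_
      obtain ⟨_, x, hx, rfl⟩ := b
      show π c * π x * (π c)⁻¹ = π x
      rw [← map_mul, ← map_inv, ← map_mul, ← mul_inv_eq_one, ← map_inv, ← map_mul]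
      exact (hπA _).2 (hNA _ hc x hx)
    · rw [Nat.card_congr (Subgroup.subgroupOfEquivOfLe hNC).toEquiv, hcardN, mul_comm]
      exact hKle
  refine ⟨A, N, k, m, e, hAn, hNn, hAN, hNC, hNA, hDA, he2, hem, hk, hV, by rw [hcardN, hte, mul_comm], hdA,
    fun p hp => (heven p (Nat.prime_of_mem_primeFactors hp) (Nat.dvd_of_mem_primeFactors (hpf ▸ hp))).2, ?_, hdG⟩
  rw [← ψ.ker.card_mul_index, Subgroup.index_ker, ← hNker, Nat.card_congr (Subgroup.subgroupOfEquivOfLe hNC).toEquiv]
  refine Nat.mul_dvd_mul_left _ ((Subgroup.card_subgroup_dvd_card _).trans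
    ((card_mulAut_dvd_of_squarefree_exponent hNbsq).trans (dvd_of_eq ?_)))
  rw [← ht, hpf]
  exact Finset.prod_congr rfl fun p _ => by rw [hef]

end CfsgLib.Char
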