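import Mathlib
import Cfsg.Agent.Lib.Char.TransLinear.Structure
import Cfsg.Agent.Lib.Char.TransLinear.SL23
import Cfsg.Agent.Lib.Invol.CyclicCentralizer

/-!
# Solvable transitive linear groups
-/

set_option autoImplicit false
set_option linter.style.haveILetI false

namespace CfsgLib.Char

open Module
open scoped commutatorElement

variable {q : ℕ} [Fact q.Prime] {V : Type*} [AddCommGroup V] [Module (ZMod q) V] [Finite V] [Nontrivial V]
  {G : Type*} [Group G] [Finite G] (ρ : G →* (V ≃ₗ[ZMod q] V))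

/-- The two possibilities for a solvable transitive linear group. -/
theorem transLinear_cases [Group.IsSolvable G] (hρ : Function.Injective ρ)
    (htr : ∀ v w : V, v ≠ 0 → w ≠ 0 → ∃ g : G, ρ g v = w) :
    (∃ A : Subgroup G, A.Normal ∧ (∀ a ∈ A, ∀ b ∈ A, a * b = b * a) ∧ Subgroup.centralizer (A : Set G) ≤ A) ∨
    ∃ A N : Subgroup G, A.Normal ∧ N.Normal ∧ A ≤ N ∧ (∀ x : G, ∀ a ∈ A, x * a = a * x) ∧
      (∀ x ∈ N, ∀ y ∈ N, ⁅x, y⁆ ∈ A) ∧ Subgroup.centralizer (N : Set G) ≤ A ∧
      Nat.card A ∣ q - 1 ∧ 2 ∣ Nat.card A ∧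
      ((q ∈ [3, 5, 7, 11, 23] ∧ Nat.card V = q ^ 2 ∧ Nat.card N = Nat.card A * 4 ∧ N.index ∣ 6) ∨
        (q = 3 ∧ Nat.card V = 81 ∧ Nat.card N = Nat.card A * 16)) := by
  rcases transLinear_structure ρ hρ htr with h | ⟨A, N, k, m, e, hAn, hNn, hAN, hNC, hNA, hDA, he2, hem, hk,
    hV, hcN, hdA, hrad, hdC, hdG⟩
  · exact Or.inl h
  right
  set C := Subgroup.centralizer (A : Set G) with hC
  have hq := (Fact.out : q.Prime)
  have hV1 := card_sub_one_dvd_of_transitive ρ htr
  rw [hV] at hV1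
  have hdvd : (q ^ k) ^ m - 1 ∣ (q ^ k - 1) * (k * autBound e) := by
    refine hV1.trans (hdG.trans ((Nat.mul_dvd_mul_left k hdC).trans ?_))
    rw [hcN, autBound]
    obtain ⟨c, hc⟩ := hdA
    exact ⟨c, by rw [hc]; ring⟩
  rcases transLinear_survivors hq.two_le hk he2 hem (fun p hp => (hrad p hp).trans hdA) hdvd with
    ⟨he, hm, hQ⟩ | ⟨he, hm, hQ⟩
  all_goals
    obtain ⟨hk', hq'⟩ : k = 1 ∧ q ^ k = q := by
      have hp : (q ^ k).Prime := by
        first
          | (rw [hQ]; norm_num)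
          | (simp only [List.mem_cons, List.not_mem_nil, or_false] at hQ
             rcases hQ with h | h | h | h | h <;> (rw [h]; norm_num))
      have hk' := hp.eq_one_of_pow
      exact ⟨hk', by rw [hk', pow_one]⟩
    subst hk' he hm
    rw [pow_one] at hV hdA hQ
    have hA2 : 2 ∣ Nat.card A := hrad 2 (by
      rw [Nat.mem_primeFactors]; exact ⟨Nat.prime_two, by norm_num, by norm_num⟩)
    have hCtop : C = ⊤ := Subgroup.eq_top_of_card_eq _ (Nat.dvd_antisymm C.card_subgroup_dvd_card (by simpa using hdG))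
    have hcent : ∀ x : G, ∀ a ∈ A, x * a = a * x := fun x a ha =>
      (Subgroup.mem_centralizer_iff.1 (show x ∈ C from hCtop ▸ Subgroup.mem_top x) a ha).symm
    refine ⟨A, N, hAn, hNn, hAN, hcent, hNA, hDA, hdA, hA2, ?_⟩
  · refine Or.inl ⟨hQ, hV, by rw [hcN]; norm_num, ?_⟩
    have hgl : ∏ p ∈ (2 : ℕ).primeFactors, glCard (2 * (2 : ℕ).factorization p) p = 6 := by
      rw [Nat.Prime.primeFactors Nat.prime_two, Finset.prod_singleton, Nat.Prime.factorization_self Nat.prime_two]
      decide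
    rw [hgl, hCtop, Subgroup.card_top, ← N.card_mul_index] at hdC
    exact Nat.dvd_of_mul_dvd_mul_left Nat.card_pos hdC
  · exact Or.inr ⟨hQ, by rw [hV, hQ]; norm_num, by rw [hcN]; norm_num⟩

/-- Huppert's theorem. -/
theorem solvable_transitive_linear [Group.IsSolvable G] (hρ : Function.Injective ρ)
    (htr : ∀ v w : V, v ≠ 0 → w ≠ 0 → ∃ g : G, ρ g v = w) :
    IsSemilinearRep ρ ∨ Nat.card V ∈ ({9, 25, 49, 121, 529, 81} : Set ℕ) := by
  rcases transLinear_cases ρ hρ htr with ⟨A, hAn, hA, hCA⟩ | ⟨A, N, -, -, -, -, -, -, -, -, h⟩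
  · exact Or.inl (@isSemilinearRep_of_self_centralizing q _ V _ _ _ _ G _ _ ρ hρ htr A hAn hA hCA)
  · right
    rcases h with ⟨hq, hV, -, -⟩ | ⟨-, hV, -⟩
    · simp only [List.mem_cons, List.not_mem_nil, or_false] at hq
      rcases hq with rfl | rfl | rfl | rfl | rfl <;> rw [hV] <;> norm_num
    · rw [hV]; norm_num

section Regular

/-- In a group of fixed-point-free linear maps in odd characteristic there is at most one involution. -/
theorem involution_unique_of_fpf (hρ : Function.Injective ρ) (hq : q ≠ 2)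
    (hreg : ∀ v : V, v ≠ 0 → ∀ g : G, ρ g v = v → g = 1) :
    ∀ x y : G, orderOf x = 2 → orderOf y = 2 → x = y := by
  have hneg : ∀ x : G, orderOf x = 2 → ∀ v : V, ρ x v = -v := by
    intro x hx v
    have h2 : ρ x (ρ x v) = v := by
      rw [← LinearEquiv.mul_apply, ← map_mul, ← pow_two, ← hx, pow_orderOf_eq_one, map_one]; rfl
    by_contra hne
    have h0 : ρ x v + v ≠ 0 := fun h => hne (eq_neg_of_add_eq_zero_left h)
    have h1 := hreg _ h0 x (by rw [map_add, h2, add_comm])
    rw [h1, orderOf_one] at hx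
    norm_num at hx
  exact fun x y hx hy => hρ (LinearEquiv.ext fun v => by rw [hneg x hx, hneg y hy])

theorem card_eq_of_regular (htr : ∀ v w : V, v ≠ 0 → w ≠ 0 → ∃ g : G, ρ g v = w)
    (hreg : ∀ v : V, v ≠ 0 → ∀ g : G, ρ g v = v → g = 1) : Nat.card G = Nat.card V - 1 := by
  classical
  obtain ⟨v, hv⟩ := exists_ne (0 : V)
  have hbij : Function.Bijective (fun g : G => (⟨ρ g v, fun h => hv ((ρ g).map_eq_zero_iff.1 h)⟩ : {x : V // x ≠ 0})) := by
    refine ⟨fun g h e => ?_, fun w => ?_⟩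
    · have e' : ρ g v = ρ h v := congrArg Subtype.val e
      exact (inv_mul_eq_one.1 (hreg v hv (g⁻¹ * h) (by
        rw [map_mul, LinearEquiv.mul_apply, ← e', ← LinearEquiv.mul_apply, ← map_mul, inv_mul_cancel, map_one]
        rfl)))
    · obtain ⟨g, hg⟩ := htr v w hv w.2
      exact ⟨g, Subtype.ext hg⟩
  haveI := Fintype.ofFinite V
  rw [Nat.card_congr (Equiv.ofBijective _ hbij), Nat.card_eq_fintype_card, Fintype.card_subtype_compl,
    Fintype.card_subtype_eq, Nat.card_eq_fintype_card]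

theorem exists_index_two_of_order_six_or_two {B : Type*} [Group B] [Finite B]
    (h : Nat.card B = 2 ∨ Nat.card B = 6) : ∃ H : Subgroup B, H.index = 2 := by
  rcases h with h | h
  · exact ⟨⊥, by rw [Subgroup.index_bot, h]⟩
  · obtain ⟨x, hx⟩ := exists_prime_orderOf_dvd_card' (G := B) (hp := ⟨Nat.prime_three⟩) 3 (by rw [h]; norm_num)
    refine ⟨Subgroup.zpowers x, ?_⟩
    have := (Subgroup.zpowers x).card_mul_index
    rw [Nat.card_zpowers, hx, h] at this
    omega

theorem exists_index_two_of_eight (h : Nat.card G = 8) : ∃ N : Subgroup G, N.Normal ∧ N.index = 2 := by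
  haveI : Fact (Nat.Prime 2) := ⟨Nat.prime_two⟩
  obtain ⟨H, hH⟩ := Sylow.exists_subgroup_card_pow_prime (G := G) 2 (n := 2) (by rw [h]; norm_num)
  have := H.card_mul_index
  rw [hH, h] at this
  have h2 : H.index = 2 := by omega
  exact ⟨H, Subgroup.normal_of_index_eq_two h2, h2⟩

/-- A self-centralizing normal abelian subgroup gives a subgroup of index two. -/
theorem exists_index_two_of_self_centralizing (hρ : Function.Injective ρ)
    (htr : ∀ v w : V, v ≠ 0 → w ≠ 0 → ∃ g : G, ρ g v = w) (hq : q ≠ 2) (A : Subgroup G) [A.Normal]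
    (hA : ∀ a ∈ A, ∀ b ∈ A, a * b = b * a) (hCA : Subgroup.centralizer (A : Set G) ≤ A) :
    ∃ N : Subgroup G, N.Normal ∧ N.index = 2 := by
  classical
  haveI := finite_moduleEnd (q := q) (V := V)
  have hCeq : Subgroup.centralizer (A : Set G) = A :=
    le_antisymm hCA fun a ha => Subgroup.mem_centralizer_iff.2 fun b hb => hA b hb a ha
  have hcyc := isCyclic_quotient_centralizer ρ hρ htr A hA
  have heven : Even (Nat.card G) := by
    refine even_iff_two_dvd.2 (dvd_trans ?_ (card_sub_one_dvd_of_transitive ρ htr))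
    obtain ⟨k, hk⟩ : ∃ k, Nat.card V = q ^ k :=
      ⟨finrank (ZMod q) V, by
        haveI : Module.Finite (ZMod q) V := Module.Finite.of_finite
        rw [Module.natCard_eq_pow_finrank (K := ZMod q), Nat.card_zmod]⟩
    have hodd : Odd (Nat.card V) := hk ▸ ((Fact.out : q.Prime).odd_of_ne_two hq).pow
    obtain ⟨j, hj⟩ := hodd
    exact ⟨j, by omega⟩
  suffices h : ∃ N : Subgroup G, N.index = 2 by
    obtain ⟨N, hN⟩ := h
    exact ⟨N, Subgroup.normal_of_index_eq_two hN, hN⟩
  rcases Nat.even_or_odd (Nat.card (G ⧸ Subgroup.centralizer (A : Set G))) with he | ho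
  · obtain ⟨g, hg⟩ := IsCyclic.exists_generator (α := G ⧸ Subgroup.centralizer (A : Set G))
    have hog := orderOf_eq_card_of_forall_mem_zpowers hg
    refine ⟨(Subgroup.zpowers (g ^ 2)).comap (QuotientGroup.mk' _), ?_⟩
    rw [Subgroup.index_comap_of_surjective _ (QuotientGroup.mk'_surjective _)]
    have h1 := (Subgroup.zpowers (g ^ 2)).card_mul_index
    rw [Nat.card_zpowers, orderOf_pow' _ two_ne_zero, hog] at h1
    obtain ⟨j, hj⟩ := he
    rw [hj, show j + j = 2 * j by ring, Nat.gcd_mul_right_left, Nat.mul_div_cancel_left _ (by norm_num)] at h1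
    have hjpos : 0 < j := by have := Nat.card_pos (α := G ⧸ Subgroup.centralizer (A : Set G)); omega
    exact Nat.eq_of_mul_eq_mul_left hjpos (h1.trans (mul_comm 2 j))
  · haveI : Fact (Nat.Prime 2) := ⟨Nat.prime_two⟩
    obtain ⟨T⟩ : Nonempty (Sylow 2 G) := inferInstance
    have hTA : (T : Subgroup G) ≤ A := by
      intro x hx
      rw [← hCeq, ← QuotientGroup.eq_one_iff, ← orderOf_eq_one_iff]
      obtain ⟨j, hj⟩ := T.2 ⟨x, hx⟩
      have h1 : orderOf (x : G ⧸ Subgroup.centralizer (A : Set G)) ∣ 2 ^ j :=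
        orderOf_dvd_of_pow_eq_one (by rw [← QuotientGroup.mk_pow, show x ^ 2 ^ j = 1 from congrArg Subtype.val hj, QuotientGroup.mk_one])
      exact Nat.Coprime.eq_one_of_dvd
        ((Nat.Coprime.pow_left j (Nat.coprime_two_left.2 ho)).coprime_dvd_left h1) (orderOf_dvd_natCard _)
    let f₀ : A →* spanAlg ρ A :=
      { toFun := fun a => ⟨toEndHom ρ (a : G), toEndHom_mem_spanAlg ρ a.2⟩
        map_one' := Subtype.ext (map_one (toEndHom ρ))
        map_mul' := fun a b => Subtype.ext (map_mul (toEndHom ρ) (a : G) b) }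
    haveI : IsCyclic A := isCyclic_of_injective_isField (spanAlg_isField ρ htr A hA) f₀
      (fun a b h => Subtype.ext (toEndHom_injective hρ (congrArg Subtype.val h)))
    refine CfsgLib.Invol.exists_index_two_of_cyclic heven T ?_
    exact isCyclic_of_injective (Subgroup.inclusion hTA) (Subgroup.inclusion_injective hTA)

/-- Solvable groups regular on the non-zero vectors. -/
theorem solvable_regular_semilinear [Group.IsSolvable G] (hρ : Function.Injective ρ)
    (htr : ∀ v w : V, v ≠ 0 → w ≠ 0 → ∃ g : G, ρ g v = w)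
    (hreg : ∀ v : V, v ≠ 0 → ∀ g : G, ρ g v = v → g = 1) :
    IsSemilinearRep ρ ∨ Nat.card V ∈ ({25, 49, 121, 529} : Set ℕ) := by
  have hG := card_eq_of_regular ρ htr hreg
  rcases transLinear_cases ρ hρ htr with ⟨A, hAn, hA, hCA⟩ | ⟨A, N, -, -, -, -, -, -, -, hA2, h⟩
  · exact Or.inl (@isSemilinearRep_of_self_centralizing q _ V _ _ _ _ G _ _ ρ hρ htr A hAn hA hCA)
  rcases h with ⟨hq, hV, -, -⟩ | ⟨-, hV, hN⟩
  · simp only [List.mem_cons, List.not_mem_nil, or_false] at hq
    rcases hq with rfl | rfl | rfl | rfl | rfl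
    · left
      have h8 : Nat.card G = 8 := by rw [hG, hV]; norm_num
      haveI : Fact (Nat.Prime 2) := ⟨Nat.prime_two⟩
      obtain ⟨H, hH⟩ := Sylow.exists_subgroup_card_pow_prime (G := G) 2 (n := 2) (by rw [h8]; norm_num)
      have hHi : H.index = 2 := by
        have := H.card_mul_index
        rw [hH, h8] at this; omega
      haveI := Subgroup.normal_of_index_eq_two hHi
      letI := IsPGroup.commGroupOfCardEqPrimeSq (p := 2) hH
      have hab : ∀ a ∈ H, ∀ b ∈ H, a * b = b * a := fun a ha b hb =>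
        congrArg Subtype.val (mul_comm (⟨a, ha⟩ : H) ⟨b, hb⟩)
      by_cases hCH : Subgroup.centralizer (H : Set G) ≤ H
      · exact isSemilinearRep_of_self_centralizing ρ hρ htr H hab hCH
      · obtain ⟨c, hc, hcH⟩ := SetLike.not_le_iff_exists.1 hCH
        refine isSemilinearRep_of_self_centralizing ρ hρ htr ⊤ (fun a _ b _ => ?_) le_top
        have hall : ∀ g : G, g * c = c * g ∧ ∀ x ∈ H, g * x = x * g := by
          have hxc : ∀ x ∈ H, c * x = x * c := fun x hx => (Subgroup.mem_centralizer_iff.1 hc x hx).symm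
          intro g
          by_cases hg : g ∈ H
          · exact ⟨(hxc g hg).symm, fun x hx => hab g hg x hx⟩
          · have hgc : c⁻¹ * g ∈ H :=
              (Subgroup.mul_mem_iff_of_index_two hHi).2 (by rw [inv_mem_iff]; exact iff_of_false hcH hg)
            have hg' : g = c * (c⁻¹ * g) := by group
            refine ⟨?_, fun x hx => ?_⟩
            · rw [hg']; exact ((Commute.refl c).mul_left (show Commute (c⁻¹ * g) c from (hxc _ hgc).symm)).eq
            · rw [hg']; exact ((show Commute c x from hxc x hx).mul_left (hab _ hgc x hx)).eq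
        by_cases hb : b ∈ H
        · exact (hall a).2 b hb
        · have hbc : c⁻¹ * b ∈ H :=
            (Subgroup.mul_mem_iff_of_index_two hHi).2 (by rw [inv_mem_iff]; exact iff_of_false hcH hb)
          have hb' : b = c * (c⁻¹ * b) := by group
          rw [hb']
          exact ((show Commute a c from (hall a).1).mul_right ((hall a).2 _ hbc)).eq
    all_goals (right; rw [hV]; norm_num)
  · exfalso
    have h1 := N.card_subgroup_dvd_card
    rw [hN, hG, hV] at h1
    obtain ⟨a, ha⟩ := hA2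
    rw [ha] at h1
    have : 32 ∣ 81 - 1 := dvd_trans ⟨a, by ring⟩ h1
    norm_num at this

/-- In the exceptional groups an element of order three generates `SL(2, 3)` with the Sylow `2`-subgroup. -/
theorem exists_SL23_of_index_three {A N : Subgroup G} (hNn : N.Normal) (hAN : A ≤ N)
    (hcent : ∀ x : G, ∀ a ∈ A, x * a = a * x) (hDA : Subgroup.centralizer (N : Set G) ≤ A)
    (huniq : ∀ x y : G, orderOf x = 2 → orderOf y = 2 → x = y)
    (hN : Nat.card N = Nat.card A * 4) (hi : N.index = 3) (hA10 : Nat.card A = 2 ∨ Nat.card A = 10) :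
    ∃ H : Subgroup G, Nat.card H = 24 ∧ Nonempty (H ≃* Matrix.SpecialLinearGroup (Fin 2) (ZMod 3)) := by
  classical
  haveI := hNn
  haveI : Fact (Nat.Prime 2) := ⟨Nat.prime_two⟩
  obtain ⟨t, ht⟩ := exists_prime_orderOf_dvd_card' (G := G) (hp := ⟨Nat.prime_three⟩) 3 (hi ▸ N.index_dvd_card)
  obtain ⟨P⟩ : Nonempty (Sylow 2 N) := inferInstance
  have hP8 : Nat.card (P : Subgroup N) = 8 := by
    refine (Nat.dvd_antisymm ?_ ?_)
    · obtain ⟨j, hj⟩ := IsPGroup.iff_card.1 P.2
      have h1 := (P : Subgroup N).card_subgroup_dvd_card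
      rw [hj, hN] at h1
      rw [hj, show (8 : ℕ) = 2 ^ 3 by norm_num]
      refine Nat.pow_dvd_pow 2 ?_
      by_contra hlt
      push Not at hlt
      have := (Nat.pow_dvd_pow 2 hlt).trans h1
      rcases hA10 with h | h <;> rw [h] at this <;> norm_num at this
    · rw [show (8 : ℕ) = 2 ^ 3 by norm_num]
      refine P.pow_dvd_card_of_pow_dvd_card ?_
      rw [hN]
      rcases hA10 with h | h <;> rw [h] <;> norm_num
  have hPA : (P : Subgroup N) ⊔ A.subgroupOf N = ⊤ := by
    refine Subgroup.eq_top_of_card_eq _ (Nat.dvd_antisymm (Subgroup.card_subgroup_dvd_card _) ?_)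
    have h1 : Nat.card A ∣ Nat.card ((P : Subgroup N) ⊔ A.subgroupOf N : Subgroup N) := by
      rw [← Nat.card_congr (Subgroup.subgroupOfEquivOfLe hAN).toEquiv]
      exact Subgroup.card_dvd_of_le le_sup_right
    have h2 : 8 ∣ Nat.card ((P : Subgroup N) ⊔ A.subgroupOf N : Subgroup N) :=
      hP8 ▸ Subgroup.card_dvd_of_le le_sup_left
    rw [hN]
    refine dvd_trans ?_ (Nat.lcm_dvd h2 h1)
    rcases hA10 with h | h <;> rw [h] <;> decide
  haveI hPn : (P : Subgroup N).Normal := by
    refine Subgroup.normalizer_eq_top_iff.1 (top_le_iff.1 (hPA.ge.trans (sup_le Subgroup.le_normalizer fun a ha => ?_)))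
    rw [Subgroup.mem_normalizer_iff]
    intro x
    rw [show a * x * a⁻¹ = x by
      refine Subtype.ext ?_
      push_cast
      rw [← hcent (x : G) (a : G) ha, mul_inv_cancel_right]]
  haveI := Sylow.characteristic_of_normal P hPn
  set Q := (P : Subgroup N).map N.subtype with hQ
  haveI : Q.Normal := inferInstance
  have hQ8 : Nat.card Q = 8 := by
    rw [hQ, Subgroup.card_map_of_injective N.subtype_injective]; exact hP8
  -- `N` is generated by `Q` and the central subgroup `A`
  have hgen : ∀ x ∈ N, ∀ g : G, (∀ y ∈ Q, g * y = y * g) → g * x = x * g := by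
    intro x hx g hg
    have : (⟨x, hx⟩ : N) ∈ (P : Subgroup N) ⊔ A.subgroupOf N := hPA ▸ Subgroup.mem_top _
    obtain ⟨y, hy, a, ha, e⟩ := Subgroup.mem_sup_of_normal_left.1 this
    have e' : x = (y : G) * (a : G) := (congrArg Subtype.val e).symm
    rw [e']
    exact ((show Commute g y from hg _ ⟨y, hy, rfl⟩).mul_right (hcent g a ha)).eq
  have hQnab : ∃ a ∈ Q, ∃ b ∈ Q, a * b ≠ b * a := by
    by_contra! hab
    have hle : N ≤ A := fun x hx => hDA (Subgroup.mem_centralizer_iff.2 fun y hy =>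
      hgen x hx y fun z hz => (hgen y hy z fun w hw => hab z hz w hw).symm)
    have := Subgroup.card_le_of_le hle
    rw [hN] at this
    rcases hA10 with h | h <;> rw [h] at this <;> omega
  have htQ : ∃ a ∈ Q, t * a ≠ a * t := by
    by_contra! hc
    have h3 : t ∈ A := hDA (Subgroup.mem_centralizer_iff.2 fun y hy => (hgen y hy t hc).symm)
    have := Subgroup.orderOf_dvd_natCard A h3
    rw [ht] at this
    rcases hA10 with h | h <;> rw [h] at this <;> norm_num at this
  set H := Q ⊔ Subgroup.zpowers t with hH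
  have hHc : Nat.card H = 24 := by
    rw [card_eq_card_map_mul (A := Q) (N := H) le_sup_left, hH, Subgroup.map_sup, MonoidHom.map_zpowers, hQ8]
    have h0 : Q.map (QuotientGroup.mk' Q) = ⊥ := by
      rw [Subgroup.map_eq_bot_iff, QuotientGroup.ker_mk']
    rw [h0, bot_sup_eq, Nat.card_zpowers]
    haveI : Fact (Nat.Prime 3) := ⟨Nat.prime_three⟩
    rw [orderOf_eq_prime (p := 3) (by rw [← map_pow, ← ht, pow_orderOf_eq_one, map_one]) fun e => by
      have h3 : t ∈ Q := (QuotientGroup.eq_one_iff t).1 e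
      have := Subgroup.orderOf_dvd_natCard Q h3
      rw [ht, hQ8] at this
      norm_num at this]
  refine ⟨H, hHc, mulEquiv_SL23_of_order_24 hHc (fun x y hx hy => Subtype.ext (huniq _ _
    (by rw [Subgroup.orderOf_coe]; exact hx) (by rw [Subgroup.orderOf_coe]; exact hy))) (Q.subgroupOf H)
    (by rw [Nat.card_congr (Subgroup.subgroupOfEquivOfLe (le_sup_left : Q ≤ H)).toEquiv, hQ8]) ?_
    (t := ⟨t, Subgroup.mem_sup_right (Subgroup.mem_zpowers t)⟩) ?_ ?_⟩
  · obtain ⟨a, ha, b, hb, hab⟩ := hQnab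
    exact ⟨⟨a, Subgroup.mem_sup_left ha⟩, ha, ⟨b, Subgroup.mem_sup_left hb⟩, hb,
      fun e => hab (congrArg Subtype.val e)⟩
  · rw [← Subgroup.orderOf_coe]; exact ht
  · obtain ⟨a, ha, hta⟩ := htQ
    exact ⟨⟨a, Subgroup.mem_sup_left ha⟩, ha, fun e => hta (congrArg Subtype.val e)⟩

/-- The index two subgroup, or the two exceptions. -/
theorem solvable_regular_index_two [Group.IsSolvable G] (hρ : Function.Injective ρ)
    (htr : ∀ v w : V, v ≠ 0 → w ≠ 0 → ∃ g : G, ρ g v = w)
    (hreg : ∀ v : V, v ≠ 0 → ∀ g : G, ρ g v = v → g = 1) (hq2 : q ≠ 2) :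
    (∃ N : Subgroup G, N.Normal ∧ N.index = 2) ∨
      (Nat.card V = 25 ∧ Nonempty (G ≃* Matrix.SpecialLinearGroup (Fin 2) (ZMod 3))) ∨
      (Nat.card V = 121 ∧ Nonempty (G ≃* Matrix.SpecialLinearGroup (Fin 2) (ZMod 3) × Multiplicative (ZMod 5))) := by
  classical
  have hG := card_eq_of_regular ρ htr hreg
  have huniq := involution_unique_of_fpf ρ hρ hq2 hreg
  rcases transLinear_cases ρ hρ htr with ⟨A, hAn, hA, hCA⟩ | ⟨A, N, hAn, hNn, hAN, hcent, hNA, hDA, hdA, hA2, h⟩
  · exact Or.inl (@exists_index_two_of_self_centralizing q _ V _ _ _ _ G _ _ ρ hρ htr hq2 A hAn hA hCA)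
  rcases h with ⟨hq, hV, hN, hidx⟩ | ⟨-, hV, hN⟩
  swap
  · exfalso
    have h1 := N.card_subgroup_dvd_card
    rw [hN, hG, hV] at h1
    obtain ⟨a, ha⟩ := hA2
    rw [ha] at h1
    have : 32 ∣ 81 - 1 := dvd_trans ⟨a, by ring⟩ h1
    norm_num at this
  have hmul := N.card_mul_index
  rw [hN, hG, hV] at hmul
  haveI := hNn
  have hle := Nat.le_of_dvd (by norm_num) hidx
  have hquot : N.index = 2 ∨ N.index = 6 → ∃ H : Subgroup G, H.Normal ∧ H.index = 2 := by
    intro h
    obtain ⟨H, hH⟩ := exists_index_two_of_order_six_or_two (B := G ⧸ N) (by rwa [Subgroup.index] at h)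
    have h2 : (H.comap (QuotientGroup.mk' N)).index = 2 := by
      rw [Subgroup.index_comap_of_surjective _ (QuotientGroup.mk'_surjective N), hH]
    exact ⟨_, Subgroup.normal_of_index_eq_two h2, h2⟩
  simp only [List.mem_cons, List.not_mem_nil, or_false] at hq
  have hAle := Nat.le_of_dvd (by have := (Fact.out : q.Prime).two_le; omega) hdA
  rcases hq with rfl | rfl | rfl | rfl | rfl
  · exact Or.inl (exists_index_two_of_eight (by rw [hG, hV]; norm_num))
  · have h2 : Nat.card A = 2 ∧ N.index = 3 := by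
      interval_cases h : N.index <;> omega
    obtain ⟨H, hH, ⟨e⟩⟩ := exists_SL23_of_index_three hNn hAN hcent hDA huniq hN h2.2 (Or.inl h2.1)
    have hHtop : H = ⊤ := Subgroup.eq_top_of_card_eq _ (by rw [hH, hG, hV]; norm_num)
    exact Or.inr (Or.inl ⟨by rw [hV]; norm_num,
      ⟨(Subgroup.topEquiv.symm.trans (MulEquiv.subgroupCongr hHtop.symm)).trans e⟩⟩)
  · have h3 : N.index ≠ 3 := fun h => by
      rw [h] at hmul
      rw [show Nat.card A = 4 by omega] at hdA
      norm_num at hdA
    exact Or.inl (hquot (by interval_cases h : N.index <;> omega))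
  · have h2 : Nat.card A = 10 ∧ N.index = 3 := by
      interval_cases h : N.index <;> omega
    obtain ⟨H, hH, ⟨e⟩⟩ := exists_SL23_of_index_three hNn hAN hcent hDA huniq hN h2.2 (Or.inr h2.1)
    haveI : Fact (Nat.Prime 5) := ⟨Nat.prime_five⟩
    obtain ⟨⟨a, haA⟩, hao⟩ := exists_prime_orderOf_dvd_card' (G := A) 5 (by rw [h2.1]; norm_num)
    have hao' : orderOf a = 5 := by rw [← hao]; exact Subgroup.orderOf_coe (⟨a, haA⟩ : A)
    let f : H × Subgroup.zpowers a →* G := MonoidHom.noncommCoprod H.subtype (Subgroup.zpowers a).subtype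
      (fun h z => hcent (h : G) z (Subgroup.zpowers_le.2 haA z.2))
    have hf : Function.Injective f := by
      rw [injective_iff_map_eq_one]
      rintro ⟨h, z⟩ hh
      have e1 : (h : G) = (z : G)⁻¹ := eq_inv_of_mul_eq_one_left hh
      have d1 : orderOf (h : G) ∣ 24 := hH ▸ Subgroup.orderOf_dvd_natCard H h.2
      have d2 : orderOf (h : G) ∣ 5 := by
        rw [e1, orderOf_inv]
        refine (Subgroup.orderOf_dvd_natCard _ z.2).trans ?_
        rw [Nat.card_zpowers, hao']
      have h1 : (h : G) = 1 := orderOf_eq_one_iff.1 (Nat.eq_one_of_dvd_coprimes (by norm_num) d1 d2)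
      refine Prod.ext (Subtype.ext h1) (Subtype.ext ?_)
      rw [h1] at e1
      exact inv_eq_one.1 e1.symm
    have hbij : Function.Bijective f := by
      refine (Nat.bijective_iff_injective_and_card _).2 ⟨hf, ?_⟩
      rw [Nat.card_prod, hH, Nat.card_zpowers, hao', hG, hV]
      norm_num
    refine Or.inr (Or.inr ⟨by rw [hV]; norm_num, ⟨(MulEquiv.ofBijective f hbij).symm.trans (e.prodCongr ?_)⟩⟩)
    exact mulEquivOfPrimeCardEq (p := 5) (by rw [Nat.card_zpowers, hao'])
      (by rw [Nat.card_eq_fintype_card, Fintype.card_multiplicative, ZMod.card])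
  · exact Or.inl (hquot (by interval_cases h : N.index <;> omega))

end Regular

end CfsgLib.Char
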